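import Mathlib

/-! A Zariski sheaf on schemes over a base which is representable over the opens of a basis is
representable. -/

set_option autoImplicit false
set_option maxHeartbeats 800000
set_option linter.style.haveILetI false

universe u

open CategoryTheory CategoryTheory.Limits AlgebraicGeometry Opposite TopologicalSpace

namespace Groth.Agent.H8Props.WeilRes

set_option backward.isDefEq.respectTransparency false
set_option backward.isDefEq.respectTransparency.types false

variable {S : Scheme.{u}}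

/-- An open subscheme of a scheme over the base. -/
noncomputable def openPart (T : Over S) (O : T.left.Opens) : Over S := Over.mk (O.ι ≫ T.hom)

/-- The inclusion of an open subscheme over the base. -/
noncomputable def partIncl (T : Over S) (O : T.left.Opens) : openPart T O ⟶ T :=
  Over.homMk O.ι rfl

/-- Gluing of sections of a presheaf along open covers. -/
def IsZariskiGluing (F : (Over S)ᵒᵖ ⥤ Type u) : Prop :=
  ∀ (T : Over S) (κ : Type u) (C : κ → Over S) (π : ∀ i, C i ⟶ T),
    (∀ i, IsOpenImmersion (π i).left) → (∀ x : T.left, ∃ i, x ∈ Set.range (π i).left) →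
    ∀ s : ∀ i, F.obj (op (C i)),
      (∀ (i j : κ) (Z : Over S) (a : Z ⟶ C i) (b : Z ⟶ C j), a ≫ π i = b ≫ π j →
        F.map a.op (s i) = F.map b.op (s j)) →
      ∃! t : F.obj (op T), ∀ i, F.map (π i).op t = s i

/-- The cover of a scheme over the base by a jointly surjective family of open immersions. -/
noncomputable def coverOfFamily (T : Over S) {κ : Type u} (C : κ → Over S) (π : ∀ i, C i ⟶ T)
    (ho : ∀ i, IsOpenImmersion (π i).left)
    (hc : ∀ x : T.left, ∃ i, x ∈ Set.range (π i).left) : T.left.OpenCover where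
  I₀ := κ
  X i := (C i).left
  f i := (π i).left
  mem₀ := by
    rw [Scheme.presieve₀_mem_precoverage_iff]
    exact ⟨hc, ho⟩

/-- Morphisms into a scheme over the base glue along open covers. -/
theorem isZariskiGluing_yoneda (G : Over S) : IsZariskiGluing (yoneda.obj G) := by
  intro T κ C π ho hc s hs
  let 𝒰 := coverOfFamily T C π ho hc
  have hsl : ∀ i j : κ, pullback.fst (π i).left (π j).left ≫ (s i : C i ⟶ G).left =
      pullback.snd (π i).left (π j).left ≫ (s j : C j ⟶ G).left := fun i j => by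
    let Q : Over S := Over.mk (pullback.fst (π i).left (π j).left ≫ (C i).hom)
    let q₁ : Q ⟶ C i := Over.homMk (pullback.fst _ _) rfl
    let q₂ : Q ⟶ C j := Over.homMk (pullback.snd _ _) (by
      show pullback.snd _ _ ≫ (C j).hom = pullback.fst _ _ ≫ (C i).hom
      rw [← Over.w (π j), ← Over.w (π i), pullback.condition_assoc])
    exact congrArg (fun k : Q ⟶ G => k.left)
      (hs i j Q q₁ q₂ (Over.OverMorphism.ext pullback.condition))
  let k : T.left ⟶ G.left := 𝒰.glueMorphisms (fun i => (s i : C i ⟶ G).left) hsl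
  have hk : ∀ i, (π i).left ≫ k = (s i : C i ⟶ G).left := fun i =>
    𝒰.ι_glueMorphisms (fun i => (s i : C i ⟶ G).left) hsl i
  refine ⟨(Over.homMk k (𝒰.hom_ext _ _ fun i => ?_) : T ⟶ G), fun i => Over.OverMorphism.ext (hk i),
    fun t ht => Over.OverMorphism.ext (𝒰.hom_ext _ _ fun i => ?_)⟩
  · show (π i).left ≫ k ≫ G.hom = (π i).left ≫ T.hom
    rw [reassoc_of% hk i, Over.w, Over.w]
  · exact (congrArg (fun m : C i ⟶ G => m.left) (ht i)).trans (hk i).symm

/-- The directed cover by the members of a basis. -/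
@[simps I₀ X f]
noncomputable def basisCov (B : Set S.Opens) (hB : Opens.IsBasis B) : S.OpenCover where
  I₀ := B
  X U := U.1
  f U := U.1.ι
  mem₀ := by
    rw [Scheme.presieve₀_mem_precoverage_iff]
    refine ⟨fun x => ?_, inferInstance⟩
    obtain ⟨V, hV, hx, -⟩ := Opens.isBasis_iff_nbhd.mp hB (Opens.mem_top x)
    exact ⟨⟨V, hV⟩, ⟨x, hx⟩, rfl⟩

instance (B : Set S.Opens) (hB : Opens.IsBasis B) : Preorder (basisCov B hB).I₀ :=
  inferInstanceAs <| Preorder B

set_option backward.defeqAttrib.useBackward true in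
noncomputable instance (B : Set S.Opens) (hB : Opens.IsBasis B) :
    Scheme.Cover.LocallyDirected (basisCov B hB) :=
  .ofIsBasisOpensRange (by intros; simp) <| by
    convert! hB
    simp

/-- A Zariski sheaf representable over the members of a basis of opens is representable. -/
theorem exists_representableBy_of_basis (F : (Over S)ᵒᵖ ⥤ Type u) (hF : IsZariskiGluing F)
    (B : Set S.Opens) (hB : Opens.IsBasis B) (W : B → Over S)
    (hW : ∀ V : B, Set.range (W V).hom ⊆ (V.1 : Set S)) (u : ∀ V : B, F.obj (op (W V)))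
    (hu : ∀ (V : B) (T : Over S), Set.range T.hom ⊆ (V.1 : Set S) →
      Function.Bijective fun h : T ⟶ W V => F.map h.op (u V)) :
    ∃ G : Over S, (∀ V : B, Nonempty ((W V).left ≅ (G.hom ⁻¹ᵁ V.1).toScheme)) ∧
      Nonempty (F.RepresentableBy G) := by
  have hmap : ∀ {A A' A'' : Over S} (a : A ⟶ A') (b : A' ⟶ A'') (x : F.obj (op A'')),
      F.map a.op (F.map b.op x) = F.map (a ≫ b).op x := by
    intro A A' A'' a b x
    rw [op_comp, Functor.map_comp]
    rfl
  have step : ∀ {V V' : B} (h : V ≤ V'), ∃ m : W V ⟶ W V', F.map m.op (u V') = u V := fun {V V'} h =>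
    (hu V' (W V) ((hW V).trans (SetLike.coe_subset_coe.2 h))).2 (u V)
  choose m hm using @step
  have uniq : ∀ {V : B} {T : Over S} {a b : T ⟶ W V},
      F.map a.op (u V) = F.map b.op (u V) → a = b := fun {V T a b} e =>
    (hu V T (by
      rintro _ ⟨x, rfl⟩
      rw [← Over.w a, Scheme.Hom.comp_apply]
      exact hW V ⟨_, rfl⟩)).1 e
  have hid : ∀ V : B, m (le_refl V) = 𝟙 (W V) := fun V => uniq (by
    rw [hm, op_id, CategoryTheory.Functor.map_id]; rfl)
  have hcomp : ∀ (V V' V'' : B) (f : V ≤ V') (g : V' ≤ V''), m (f.trans g) = m f ≫ m g :=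
    fun V V' V'' f g => uniq (by rw [hm, ← hmap, hm, hm])
  have hr : ∀ V : B, Set.range (W V).hom ⊆ Set.range V.1.ι := fun V => by
    simpa using hW V
  let i : ∀ V : B, (W V).left ⟶ V.1.toScheme := fun V => IsOpenImmersion.lift V.1.ι (W V).hom (hr V)
  have hi : ∀ V, i V ≫ V.1.ι = (W V).hom := fun V => IsOpenImmersion.lift_fac _ _ _
  have hnat : ∀ {V V' : B} (h : V ≤ V'),
      (m h).left ≫ i V' = i V ≫ S.homOfLE (show V.1 ≤ V'.1 from h) := fun {V V'} h => by
    rw [← cancel_mono V'.1.ι, Category.assoc, Category.assoc, hi, Scheme.homOfLE_ι, hi, Over.w]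
  have sq : ∀ {V V' : B} (h : V ≤ V'), IsPullback (m h).left (i V) (i V')
      (S.homOfLE (show V.1 ≤ V'.1 from h)) := by
    intro V V' h
    let O := (W V').hom ⁻¹ᵁ V.1
    obtain ⟨c, hc⟩ := (hu V (openPart (W V') O) (by
      rintro _ ⟨⟨x, hx⟩, rfl⟩
      exact hx)).2 (F.map (partIncl (W V') O).op (u V'))
    replace hc : F.map c.op (u V) = F.map (partIncl (W V') O).op (u V') := hc
    have hcm : c ≫ m h = partIncl (W V') O := uniq (by rw [← hmap, hm, hc])
    have hsub : Set.range (m h).left ⊆ Set.range O.ι := by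
      rintro _ ⟨x, rfl⟩
      rw [Scheme.Opens.range_ι]
      show (W V').hom ((m h).left x) ∈ V.1
      rw [← Scheme.Hom.comp_apply, Over.w]
      exact hW V ⟨x, rfl⟩
    let m₀ : W V ⟶ openPart (W V') O := Over.homMk (IsOpenImmersion.lift O.ι (m h).left hsub) (by
      change _ ≫ O.ι ≫ (W V').hom = (W V).hom
      rw [IsOpenImmersion.lift_fac_assoc, Over.w])
    have hm₀ : m₀ ≫ partIncl (W V') O = m h := Over.OverMorphism.ext (IsOpenImmersion.lift_fac _ _ _)
    have h1 : m₀ ≫ c = 𝟙 _ := uniq (by rw [← hmap, hc, hmap, hm₀, hm, op_id, CategoryTheory.Functor.map_id]; rfl)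
    have h2 : c ≫ m₀ = 𝟙 _ := Over.OverMorphism.ext (by
      rw [← cancel_mono O.ι]
      have := congrArg (fun t => Over.Hom.left t) hcm
      rw [← hm₀] at this
      simpa [partIncl] using this)
    haveI : IsIso m₀.left :=
      ⟨c.left, congrArg (fun t => Over.Hom.left t) h1, congrArg (fun t => Over.Hom.left t) h2⟩
    have hml : (m h).left = m₀.left ≫ O.ι := (congrArg (fun t => Over.Hom.left t) hm₀).symm
    haveI : IsOpenImmersion (m h).left := by rw [hml]; exact inferInstance
    refine (IsOpenImmersion.isPullback (i V) (m h).left (S.homOfLE (show V.1 ≤ V'.1 from h)) (i V')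
      (hnat h) ?_).flip
    apply Opens.ext
    change (i V') ⁻¹' Set.range (S.homOfLE (show V.1 ≤ V'.1 from h)) = Set.range (m h).left
    have e1 : Set.range (m h).left = (O : Set (W V').left) := by
      refine Set.Subset.antisymm (hsub.trans (by rw [Scheme.Opens.range_ι])) fun x hx => ?_
      refine ⟨c.left ⟨x, hx⟩, ?_⟩
      rw [← Scheme.Hom.comp_apply]
      exact congrArg (fun t : openPart (W V') O ⟶ W V' => t.left ⟨x, hx⟩) hcm
    rw [e1]
    ext x
    constructor
    · rintro ⟨y, hy⟩
      show (W V').hom x ∈ V.1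
      rw [← hi V', Scheme.Hom.comp_apply, ← hy, ← Scheme.Hom.comp_apply, Scheme.homOfLE_ι]
      exact y.2
    · intro hx
      refine ⟨⟨(W V').hom x, hx⟩, V'.1.ι.injective ?_⟩
      rw [← Scheme.Hom.comp_apply, Scheme.homOfLE_ι, ← Scheme.Hom.comp_apply, hi]
      rfl
  let Fn : (basisCov B hB).I₀ ⥤ Scheme.{u} :=
    { obj := fun (V : B) => (W V).left
      map := fun {V V'} f => (m (V := V) (V' := V') (leOfHom f)).left
      map_id := fun V => congrArg (fun t => Over.Hom.left t) (hid V)
      map_comp := fun {V V' V''} f g =>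
        congrArg (fun t => Over.Hom.left t) (hcomp V V' V'' (leOfHom f) (leOfHom g)) }
  let d : Scheme.Cover.RelativeGluingData (basisCov B hB) :=
    { functor := Fn
      natTrans := { app := fun (V : B) => i V
                    naturality := fun V V' f => hnat (leOfHom f) }
      equifibered := fun {V V'} f => sq (leOfHom f) }
  have : Quiver.IsThin (basisCov B hB).I₀ := fun _ _ => inferInstance
  have : Small.{u} (basisCov B hB).I₀ := inferInstanceAs (Small.{u} B)
  have : ∀ {i j : (basisCov B hB).I₀} (f : i ⟶ j), IsOpenImmersion (d.functor.map f) :=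
    fun f => MorphismProperty.of_isPullback (d.equifibered f).flip inferInstance
  have : (d.functor ⋙ Scheme.forget).IsLocallyDirected :=
    Scheme.isLocallyDirected_of_equifibered_of_injective d.natTrans d.equifibered
      fun hij => (d.functor.map hij).injective
  have : HasColimit d.functor := inferInstance
  let G : Over S := Over.mk d.toBase
  let ιV : ∀ V : B, W V ⟶ G := fun V => Over.homMk (colimit.ι d.functor V) (by
    change colimit.ι d.functor V ≫ d.toBase = (W V).hom
    rw [Scheme.Cover.RelativeGluingData.ι_toBase]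
    exact hi V)
  have sqι : ∀ V : B, IsPullback (i V) (ιV V).left V.1.ι G.hom :=
    fun V => d.isPullback_natTrans_ι_toBase V
  have hopen : ∀ V : B, IsOpenImmersion (ιV V).left := fun V =>
    MorphismProperty.of_isPullback (sqι V) (inferInstanceAs (IsOpenImmersion V.1.ι))
  have hmι : ∀ {V V' : B} (f : V ≤ V'), m f ≫ ιV V' = ιV V := fun {V V'} f =>
    Over.OverMorphism.ext (colimit.w d.functor (homOfLE f : (V : (basisCov B hB).I₀) ⟶ V'))
  have hlift : ∀ (V : B) {T : Over S}, Set.range T.hom ⊆ (V.1 : Set S) → ∀ k : T ⟶ G,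
      ∃ a : T ⟶ W V, a ≫ ιV V = k := by
    intro V T hT k
    have hT' : Set.range T.hom ⊆ Set.range V.1.ι := by simpa using hT
    let k' : T.left ⟶ V.1.toScheme := IsOpenImmersion.lift V.1.ι T.hom hT'
    have hk : k' ≫ V.1.ι = k.left ≫ G.hom := (IsOpenImmersion.lift_fac _ _ _).trans (Over.w k).symm
    refine ⟨Over.homMk ((sqι V).lift k' k.left hk) ?_, Over.OverMorphism.ext ((sqι V).lift_snd _ _ hk)⟩
    rw [← hi V, (sqι V).lift_fst_assoc]
    exact IsOpenImmersion.lift_fac _ _ _
  -- the universal element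
  obtain ⟨uG, huG, -⟩ := hF G B W ιV hopen (fun x => by
    obtain ⟨V, y, hy⟩ := Scheme.IsLocallyDirected.ι_jointly_surjective d.functor x
    exact ⟨V, y, hy⟩) u (fun V V' Z a b e => by
      have hrange : ∀ z : Z.left, Z.hom z ∈ V.1 ⊓ V'.1 := fun z => by
        refine ⟨?_, ?_⟩
        · rw [← Over.w a, Scheme.Hom.comp_apply]; exact hW V ⟨_, rfl⟩
        · rw [← Over.w b, Scheme.Hom.comp_apply]; exact hW V' ⟨_, rfl⟩
      choose V₀ hV₀ hz hle using fun z => Opens.isBasis_iff_nbhd.mp hB (hrange z)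
      refine (hF Z Z.left (fun z => openPart Z (Z.hom ⁻¹ᵁ V₀ z)) (fun z => partIncl Z _)
        (fun z => inferInstanceAs (IsOpenImmersion (Scheme.Opens.ι _)))
        (fun z => ⟨z, ⟨z, hz z⟩, rfl⟩)
        (fun z => F.map (partIncl Z _).op (F.map a.op (u V)))
        (fun z z' Z' a' b' e' => by rw [hmap a', hmap b', e'])).unique (fun z => rfl) fun z => ?_
      let U : B := ⟨V₀ z, hV₀ z⟩
      obtain ⟨c, hc⟩ := (hu U (openPart Z (Z.hom ⁻¹ᵁ V₀ z)) (by
        rintro _ ⟨⟨x, hx⟩, rfl⟩
        exact hx)).2 (F.map (partIncl Z _).op (F.map a.op (u V)))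
      replace hc : F.map c.op (u U) = F.map (partIncl Z _).op (F.map a.op (u V)) := hc
      have hUV : U ≤ V := (hle z).trans inf_le_left
      have hUV' : U ≤ V' := (hle z).trans inf_le_right
      have hca : c ≫ m hUV = partIncl Z _ ≫ a := uniq (by rw [← hmap, hm, hc, hmap])
      haveI := hopen V'
      haveI : Mono (ιV V') := (Over.forget S).mono_of_mono_map (inferInstanceAs (Mono (ιV V').left))
      have hcb : c ≫ m hUV' = partIncl Z _ ≫ b := by
        rw [← cancel_mono (ιV V'), Category.assoc, Category.assoc, hmι, ← e,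
          reassoc_of% hca.symm, hmι]
      change F.map (partIncl Z _).op (F.map b.op (u V')) = F.map (partIncl Z _).op (F.map a.op (u V))
      rw [hmap, ← hcb, ← hmap, hm, hc])
  have hkey : ∀ {V : B} {T : Over S} (a : T ⟶ W V),
      F.map (a ≫ ιV V).op uG = F.map a.op (u V) := fun {V T} a => by rw [← hmap, huG]
  have hinj : ∀ (T : Over S) (k k' : T ⟶ G), F.map k.op uG = F.map k'.op uG → k = k' := by
    intro T k k' e
    refine Over.OverMorphism.ext
      (Scheme.Cover.hom_ext ((basisCov B hB).pullback₁ T.hom) _ _ fun V => ?_)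
    let P : Over S := Over.mk ((pullback.fst T.hom (V : B).1.ι : _ ⟶ T.left) ≫ T.hom)
    let p : P ⟶ T := Over.homMk (pullback.fst _ _) rfl
    have hP : Set.range P.hom ⊆ ((V : B).1 : Set S) := by
      rintro _ ⟨x, rfl⟩
      show (pullback.fst T.hom (V : B).1.ι ≫ T.hom) x ∈ (V : B).1
      rw [pullback.condition, Scheme.Hom.comp_apply]
      exact (pullback.snd T.hom (V : B).1.ι x).2
    obtain ⟨a, ha⟩ := hlift V hP (p ≫ k)
    obtain ⟨a', ha'⟩ := hlift V hP (p ≫ k')
    have h1 : a = a' := uniq (by rw [← hkey, ← hkey, ha, ha', ← hmap, ← hmap, e])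
    exact congrArg (fun t => Over.Hom.left t) (ha.symm.trans (h1 ▸ ha'))
  refine ⟨G, fun V => ⟨?_⟩, ⟨{
    homEquiv := fun {T} => Equiv.ofBijective (fun k => F.map k.op uG) ⟨fun k k' => hinj T k k', fun s => ?_⟩
    homEquiv_comp := fun k k' => (hmap k k' uG).symm }⟩⟩
  · haveI := hopen V
    exact IsOpenImmersion.isoOfRangeEq (ιV V).left (G.hom ⁻¹ᵁ V.1).ι (by
      rw [Scheme.Opens.range_ι]
      refine Eq.trans (d.preimage_toBase_eq_range_ι V).symm ?_
      show d.toBase ⁻¹' Set.range V.1.ι = _
      rw [Scheme.Opens.range_ι]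
      rfl)
  · let P : B → Over S := fun V => Over.mk ((pullback.fst T.hom V.1.ι : _ ⟶ T.left) ≫ T.hom)
    let p : ∀ V, P V ⟶ T := fun V => Over.homMk (pullback.fst T.hom V.1.ι) rfl
    have hP : ∀ V : B, Set.range (P V).hom ⊆ (V.1 : Set S) := by
      rintro V _ ⟨x, rfl⟩
      show (pullback.fst T.hom V.1.ι ≫ T.hom) x ∈ V.1
      rw [pullback.condition, Scheme.Hom.comp_apply]
      exact (pullback.snd T.hom V.1.ι x).2
    have hpo : ∀ V, IsOpenImmersion (p V).left := fun V =>
      inferInstanceAs (IsOpenImmersion (pullback.fst T.hom V.1.ι))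
    have hpc : ∀ x : T.left, ∃ V, x ∈ Set.range (p V).left := fun x => by
      obtain ⟨V, hV, hx, -⟩ := Opens.isBasis_iff_nbhd.mp hB (Opens.mem_top (T.hom x))
      obtain ⟨y, hy, -⟩ := Scheme.Pullback.exists_preimage_pullback (f := T.hom) (g := Scheme.Opens.ι V)
        x ⟨_, hx⟩ rfl
      exact ⟨⟨V, hV⟩, y, hy⟩
    choose a ha using fun V : B => (hu V (P V) (hP V)).2 (F.map (p V).op s)
    have hag : ∀ V : B, F.map (a V ≫ ιV V).op uG = F.map (p V).op s := fun V =>
      (hkey (a V)).trans (ha V)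
    obtain ⟨k, hk, -⟩ := isZariskiGluing_yoneda G T B P p hpo hpc (fun V => a V ≫ ιV V)
      (fun V V' Z b b' e => hinj Z _ _ (by
        show F.map (b ≫ a V ≫ ιV V).op uG = F.map (b' ≫ a V' ≫ ιV V').op uG
        rw [← hmap b, ← hmap b', hag, hag, hmap, hmap, e]))
    refine ⟨k, ?_⟩
    obtain ⟨t, -, ht⟩ := hF T B P p hpo hpc
      (fun V => F.map (p V).op s) (fun V V' Z a b e => by rw [hmap, hmap, e])
    refine (ht _ fun V => ?_).trans (ht _ fun V => rfl).symm
    have hpk : p V ≫ k = a V ≫ ιV V := hk V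
    rw [hmap, hpk, hag]

end Groth.Agent.H8Props.WeilRes
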