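import Mathlib
import Groth.Agent.H8Props.WeilRes.Glue

/-! A Zariski sheaf on schemes over a base covered by representable open subfunctors is
representable. -/

set_option autoImplicit false
set_option linter.style.haveILetI false

universe u

open CategoryTheory CategoryTheory.Limits AlgebraicGeometry Opposite TopologicalSpace

namespace Groth.Agent.H8Props.WeilRes

set_option backward.isDefEq.respectTransparency false
set_option backward.isDefEq.respectTransparency.types false

variable {S : Scheme.{u}} (F : (Over S)ᵒᵖ ⥤ Type u)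

theorem map_map_op {A A' A'' : Over S} (a : A ⟶ A') (b : A' ⟶ A'') (x : F.obj (op A'')) :
    F.map a.op (F.map b.op x) = F.map (a ≫ b).op x := by
  rw [op_comp, CategoryTheory.Functor.map_comp]
  rfl

/-- Sections of the presheaf on a scheme together with a structure map. -/
abbrev Tot (T : Scheme.{u}) : Type u := Σ t : T ⟶ S, F.obj (op (Over.mk t))

theorem tot_ext {T : Scheme.{u}} {x y : Tot F T} (h : x.1 = y.1)
    (h' : F.map (Over.homMk (U := Over.mk x.1) (V := Over.mk y.1) (𝟙 T)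
      ((Category.id_comp _).trans h.symm)).op y.2 = x.2) : x = y := by
  obtain ⟨t, s⟩ := x
  obtain ⟨t', s'⟩ := y
  obtain rfl : t = t' := h
  have : (Over.homMk (U := Over.mk t) (V := Over.mk t) (𝟙 T) (Category.id_comp _)) = 𝟙 _ :=
    Over.OverMorphism.ext rfl
  rw [this, op_id, CategoryTheory.Functor.map_id] at h'
  exact congrArg (Sigma.mk t) (Eq.symm (show s' = s from h'))

/-- Transport of a section along a morphism. -/
def totMap {T' T : Scheme.{u}} (φ : T' ⟶ T) (x : Tot F T) : Tot F T' :=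
  ⟨φ ≫ x.1, F.map (Over.homMk (U := Over.mk (φ ≫ x.1)) (V := Over.mk x.1) φ rfl).op x.2⟩

/-- The presheaf on all schemes. -/
def totFunctor : Scheme.{u}ᵒᵖ ⥤ Type u where
  obj T := Tot F T.unop
  map φ := ↾(totMap F φ.unop)
  map_id T := by
    refine ConcreteCategory.hom_ext _ _ fun x => ?_
    refine tot_ext F (Category.id_comp _) ?_
    exact congrArg (fun m => F.map m.op x.2) (Over.OverMorphism.ext (by rfl))
  map_comp φ ψ := by
    refine ConcreteCategory.hom_ext _ _ fun x => ?_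
    refine tot_ext F (Category.assoc _ _ _) ?_
    refine (map_map_op F _ _ _).trans ?_
    refine (map_map_op F _ _ _).trans ?_
    refine congrArg (fun m : _ ⟶ Over.mk x.1 => F.map m.op x.2) ?_
    exact Over.OverMorphism.ext (by simp)

variable {F}

theorem totMap_eq_iff {T' T : Scheme.{u}} (φ : T' ⟶ T) (x : Tot F T) (y : Tot F T') :
    totMap F φ x = y ↔ ∃ h : φ ≫ x.1 = y.1,
      F.map (Over.homMk (U := Over.mk y.1) (V := Over.mk x.1) φ h).op x.2 = y.2 := by
  refine ⟨fun h => ?_, fun ⟨h, h'⟩ => ?_⟩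
  · subst h
    exact ⟨rfl, rfl⟩
  · obtain ⟨t, s⟩ := y
    obtain rfl : φ ≫ x.1 = t := h
    exact Sigma.ext rfl (heq_of_eq h')

theorem totMap_totMap {T'' T' T : Scheme.{u}} (a : T'' ⟶ T') (b : T' ⟶ T) (x : Tot F T) :
    totMap F a (totMap F b x) = totMap F (a ≫ b) x := by
  rw [totMap_eq_iff]
  refine ⟨(Category.assoc _ _ _).symm, ?_⟩
  refine (map_map_op F _ _ _).trans ?_
  exact congrArg (fun m : _ ⟶ Over.mk x.1 => F.map m.op x.2) (Over.OverMorphism.ext rfl)

theorem isSheaf_totFunctor (hF : IsZariskiGluing F) :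
    Presieve.IsSheaf Scheme.zariskiTopology (totFunctor F) := by
  rw [Precoverage.isSheaf_toGrothendieck_iff_of_isStableUnderBaseChange]
  intro T R hR
  obtain ⟨(𝒰 : T.OpenCover), rfl⟩ := Scheme.exists_cover_of_mem_pretopology hR
  refine (Presieve.isSheafFor_arrows_iff (totFunctor F) 𝒰.f).2 fun x hx => ?_
  let x' : ∀ j, Tot F (𝒰.X j) := x
  let t : T ⟶ S := 𝒰.glueMorphisms (fun j => (x' j).1) fun i j =>
    congrArg Sigma.fst (hx i j _ (pullback.fst _ _) (pullback.snd _ _) pullback.condition)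
  have ht : ∀ j, 𝒰.f j ≫ t = (x' j).1 := fun j => 𝒰.ι_glueMorphisms _ _ j
  obtain ⟨κ, C, f₀, hf₀⟩ : ∃ (κ : Type u) (C : κ → Scheme.{u}) (f₀ : ∀ k, C k ⟶ T),
      (∀ k, ∃ j, ∃ e : C k = 𝒰.X j, f₀ k = eqToHom e ≫ 𝒰.f j) ∧
        ∀ x : T, ∃ k, x ∈ Set.range (f₀ k) :=
    ⟨T, fun x => 𝒰.X (Classical.choose (𝒰.exists_eq x)), fun x => 𝒰.f _,
      fun x => ⟨_, rfl, (Category.id_comp _).symm⟩, fun x =>
        ⟨x, Classical.choose_spec (𝒰.exists_eq x)⟩⟩
  choose j ej hj using hf₀.1
  let C' : κ → Over S := fun k => Over.mk (f₀ k ≫ t)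
  let π : ∀ k, C' k ⟶ Over.mk t := fun k => Over.homMk (f₀ k) rfl
  let s : ∀ k, F.obj (op (C' k)) := fun k =>
    F.map (Over.homMk (U := C' k) (V := Over.mk (x' (j k)).1) (eqToHom (ej k)) (by
      show _ ≫ (x' (j k)).1 = f₀ k ≫ t
      rw [hj, Category.assoc, ht])).op (x' (j k)).2
  have hs : ∀ (k k' : κ) (Z : Over S) (a : Z ⟶ C' k) (b : Z ⟶ C' k'), a ≫ π k = b ≫ π k' →
      F.map a.op (s k) = F.map b.op (s k') := by
    intro k k' Z a b e
    have e' : (a.left ≫ eqToHom (ej k)) ≫ 𝒰.f (j k) = (b.left ≫ eqToHom (ej k')) ≫ 𝒰.f (j k') := by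
      rw [Category.assoc, Category.assoc, ← hj, ← hj]
      exact congrArg (fun m : Z ⟶ Over.mk t => m.left) e
    have h1 : totMap F (a.left ≫ eqToHom (ej k)) (x' (j k)) =
        totMap F (b.left ≫ eqToHom (ej k')) (x' (j k')) := hx _ _ _ _ _ e'
    obtain ⟨h2, h3⟩ := (totMap_eq_iff _ _ _).1 h1
    have hz : (a.left ≫ eqToHom (ej k)) ≫ (x' (j k)).1 = Z.hom := by
      rw [← Over.w a, Category.assoc]
      congr 1
      show _ = f₀ k ≫ t
      rw [hj, Category.assoc, ht]
    let ζ : Z ⟶ Over.mk ((b.left ≫ eqToHom (ej k')) ≫ (x' (j k')).1) :=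
      Over.homMk (𝟙 _) ((Category.id_comp _).trans (h2.symm.trans hz))
    have h4 := congrArg (F.map ζ.op) h3
    replace h4 := (map_map_op F _ _ _).symm.trans (h4.trans (map_map_op F _ _ _))
    simp only [s]
    rw [map_map_op, map_map_op]
    refine Eq.trans (congrArg (fun m : Z ⟶ Over.mk (x' (j k)).1 => F.map m.op (x' (j k)).2) (Over.OverMorphism.ext ?_))
      (h4.trans (congrArg (fun m : Z ⟶ Over.mk (x' (j k')).1 => F.map m.op (x' (j k')).2) (Over.OverMorphism.ext ?_))) <;>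
      simp [ζ]
  have ho : ∀ k, IsOpenImmersion (π k).left := fun k => by
    show IsOpenImmersion (f₀ k)
    rw [hj]
    exact inferInstance
  obtain ⟨σ, hσ, hσ'⟩ := hF (Over.mk t) κ C' π ho hf₀.2 s hs
  refine ⟨⟨t, σ⟩, fun i => ?_, fun y hy => ?_⟩
  · show totMap F (𝒰.f i) ⟨t, σ⟩ = x' i
    rw [totMap_eq_iff]
    refine ⟨ht i, ?_⟩
    let P : Over S := Over.mk (x' i).1
    let q : P ⟶ Over.mk t := Over.homMk (𝒰.f i) (ht i)
    let Q : κ → Over S := fun k => Over.mk (pullback.fst (𝒰.f i) (f₀ k) ≫ (x' i).1)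
    let q₁ : ∀ k, Q k ⟶ P := fun k => Over.homMk (pullback.fst _ _) rfl
    let q₂ : ∀ k, Q k ⟶ C' k := fun k => Over.homMk (pullback.snd _ _) (by
      show pullback.snd _ _ ≫ f₀ k ≫ t = pullback.fst _ _ ≫ (x' i).1
      rw [← pullback.condition_assoc, ht])
    refine (hF P κ Q q₁ (fun k => by
        haveI : IsOpenImmersion (f₀ k) := ho k
        exact inferInstanceAs (IsOpenImmersion (pullback.fst (𝒰.f i) (f₀ k)))) (fun z => by
        obtain ⟨k, w, hw⟩ := hf₀.2 (𝒰.f i z)
        obtain ⟨v, hv, -⟩ := Scheme.Pullback.exists_preimage_pullback (f := 𝒰.f i) (g := f₀ k)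
          z w hw.symm
        exact ⟨k, v, hv⟩)
      (fun k => F.map (q₁ k).op (x' i).2) (fun k k' Z a b e => by
        rw [map_map_op, map_map_op, e])).unique (fun k => ?_) fun k => rfl
    show F.map (q₁ k).op (F.map q.op σ) = F.map (q₁ k).op (x' i).2
    rw [map_map_op, show q₁ k ≫ q = q₂ k ≫ π k from Over.OverMorphism.ext pullback.condition,
      ← map_map_op, hσ]
    have e' : (pullback.snd (𝒰.f i) (f₀ k) ≫ eqToHom (ej k)) ≫ 𝒰.f (j k) =
        pullback.fst (𝒰.f i) (f₀ k) ≫ 𝒰.f i := by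
      rw [Category.assoc, ← hj, pullback.condition]
    obtain ⟨h2, h3⟩ := (totMap_eq_iff _ _ _).1 (hx _ _ _ _ _ e')
    exact (map_map_op F _ _ _).trans h3
  · obtain ⟨t', s'⟩ := y
    have ht' : t' = t := 𝒰.hom_ext _ _ fun i => by
      rw [ht]
      exact congrArg Sigma.fst (hy i)
    subst ht'
    refine congrArg (Sigma.mk t) (hσ' s' fun k => ?_)
    obtain ⟨h2, h3⟩ := (totMap_eq_iff _ _ _).1 (hy (j k))
    simp only [s]
    rw [← h3, map_map_op]
    exact congrArg (fun m : C' k ⟶ Over.mk t => F.map m.op s') (Over.OverMorphism.ext (hj k))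

/-- A Zariski sheaf covered by representable open subfunctors is representable. -/
theorem isRepresentable_of_open_cover (hF : IsZariskiGluing F) {ι : Type u} (W : ι → Over S)
    (u : ∀ i, F.obj (op (W i)))
    (hinj : ∀ i (T : Over S), Function.Injective fun h : T ⟶ W i => F.map h.op (u i))
    (hopen : ∀ (T : Over S) (s : F.obj (op T)), ∃ O : ι → T.left.Opens,
      (∀ x : T.left, ∃ i, x ∈ O i) ∧ ∀ i (T' : Over S) (p : T' ⟶ T),
        (∃ h : T' ⟶ W i, F.map h.op (u i) = F.map p.op s) ↔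
          Set.range p.left ⊆ (O i : Set T.left)) :
    F.IsRepresentable := by
  let Fs : Sheaf Scheme.zariskiTopology.{u} (Type u) :=
    ⟨totFunctor F, (isSheaf_iff_isSheaf_of_type _ _).2 (isSheaf_totFunctor hF)⟩
  let uu : ∀ i, Tot F (W i).left := fun i => ⟨(W i).hom, u i⟩
  let f : ∀ i, yoneda.obj (W i).left ⟶ Fs.1 := fun i => yonedaEquiv.symm (uu i)
  have happ : ∀ (i : ι) (T : Scheme.{u}) (a : T ⟶ (W i).left),
      (f i).app (op T) a = totMap F a (uu i) := fun i T a => rfl
  have hfi : ∀ i, IsOpenImmersion.presheaf (f i) := by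
    intro i
    refine MorphismProperty.relative.of_exists fun T y => ?_
    let x : Tot F T := yonedaEquiv y
    have hy : ∀ (T' : Scheme.{u}) (b : T' ⟶ T), y.app (op T') b = totMap F b x := by
      intro T' b
      have h0 := ConcreteCategory.congr_hom (y.naturality b.op) (𝟙 T)
      change y.app (op T') (b ≫ 𝟙 T) = totMap F b x at h0
      rwa [Category.comp_id] at h0
    obtain ⟨O, -, hO⟩ := hopen (Over.mk x.1) x.2
    let T' : Over S := Over.mk ((O i).ι ≫ x.1)
    let p : T' ⟶ Over.mk x.1 := Over.homMk (O i).ι rfl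
    obtain ⟨h, hh⟩ := (hO i T' p).2 (by
      show Set.range (O i).ι ⊆ _
      rw [Scheme.Opens.range_ι])
    have key : totMap F h.left (uu i) = totMap F (O i).ι x :=
      (totMap_eq_iff _ _ _).2 ⟨Over.w h, hh⟩
    refine ⟨(O i : T.Opens).toScheme, yoneda.map h.left, (O i).ι, ?_, inferInstance⟩
    refine IsPullback.of_forall_isPullback_app fun Z => (Types.isPullback_iff _ _ _ _).2 ⟨?_, ?_, ?_⟩
    · refine ConcreteCategory.hom_ext _ _ fun a => ?_
      show (f i).app Z (a ≫ h.left) = y.app Z (a ≫ (O i).ι)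
      rw [happ, hy]
      exact (totMap_totMap a h.left (uu i)).symm.trans
        ((congrArg (totMap F a) key).trans (totMap_totMap a (O i).ι x))
    · rintro a b ⟨-, e⟩
      exact (cancel_mono (O i).ι).1 e
    · rintro a (b : Z.unop ⟶ T) e
      change (f i).app Z a = y.app Z b at e
      rw [happ, hy] at e
      obtain ⟨h2, h3⟩ := (totMap_eq_iff _ _ _).1 e
      have hr : Set.range b ⊆ SetLike.coe (O i) :=
        (hO i (Over.mk (b ≫ x.1)) (Over.homMk b rfl)).1
          ⟨Over.homMk (U := Over.mk (b ≫ x.1)) (V := W i) a h2, h3⟩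
      let c := IsOpenImmersion.lift (O i).ι b (by simpa using hr)
      have hc : c ≫ (O i).ι = b := IsOpenImmersion.lift_fac _ _ _
      refine ⟨c, ?_, hc⟩
      show c ≫ h.left = a
      have h4 : Over.homMk (U := Over.mk (b ≫ x.1)) (V := W i) (c ≫ h.left)
          (by rw [Category.assoc, Over.w h]; show c ≫ (O i).ι ≫ x.1 = _; rw [reassoc_of% hc]; rfl) =
          Over.homMk (U := Over.mk (b ≫ x.1)) (V := W i) a h2 := hinj i _ (by
        refine Eq.trans ?_ h3.symm
        let c' : Over.mk (b ≫ x.1) ⟶ T' := Over.homMk c (by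
          show c ≫ (O i).ι ≫ x.1 = b ≫ x.1
          rw [reassoc_of% hc])
        have := congrArg (F.map c'.op) hh
        rw [map_map_op, map_map_op] at this
        have hcp : c' ≫ p = (Over.homMk b rfl : Over.mk (b ≫ x.1) ⟶ Over.mk x.1) :=
          Over.OverMorphism.ext hc
        rw [hcp] at this
        exact this)
      exact congrArg (fun m : Over.mk (b ≫ x.1) ⟶ W i => m.left) h4
  haveI : Presheaf.IsLocallySurjective Scheme.zariskiTopology (Sigma.desc f) := by
    refine ⟨fun {T} y => ?_⟩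
    obtain ⟨O, hcov, hO⟩ := hopen (Over.mk (y : Tot F T).1) (y : Tot F T).2
    let 𝒰 : T.OpenCover :=
      { I₀ := ι
        X := fun i => (O i).toScheme
        f := fun i => (O i).ι
        mem₀ := by
          rw [Scheme.presieve₀_mem_precoverage_iff]
          exact ⟨fun x => by obtain ⟨i, hi⟩ := hcov x; exact ⟨i, ⟨x, hi⟩, rfl⟩, inferInstance⟩ }
    refine GrothendieckTopology.superset_covering _ ?_ 𝒰.mem_grothendieckTopology
    rintro V g ⟨_, b, _, ⟨i⟩, rfl⟩
    let T' : Over S := Over.mk ((O i).ι ≫ (y : Tot F T).1)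
    obtain ⟨h, hh⟩ := (hO i T' (Over.homMk (O i).ι rfl)).2 (by
      show Set.range (O i).ι ⊆ _
      rw [Scheme.Opens.range_ι])
    refine ⟨(Sigma.ι (fun i => yoneda.obj (W i).left) i).app (op V) (b ≫ h.left), ?_⟩
    rw [← ConcreteCategory.comp_apply, ← NatTrans.comp_app, Sigma.ι_desc, happ]
    exact (totMap_totMap b h.left (uu i)).symm.trans
      ((congrArg (totMap F b) (show totMap F h.left (uu i) = totMap F (O i).ι (y : Tot F T) from
        (totMap_eq_iff _ _ _).2 ⟨Over.w h, hh⟩)).trans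
        (totMap_totMap b (O i).ι (y : Tot F T)))
  obtain ⟨Y, ⟨E⟩⟩ := Scheme.LocalRepresentability.isRepresentable hfi
  let E₀ : Tot F Y := E.homEquiv (𝟙 Y)
  have hE : ∀ {T : Scheme.{u}} (k : T ⟶ Y), E.homEquiv k = totMap F k E₀ := fun k => by
    refine (congrArg E.homEquiv (Category.comp_id k).symm).trans ?_
    exact E.homEquiv_comp k (𝟙 Y)
  let G : Over S := Over.mk E₀.1
  refine ⟨G, ⟨{ homEquiv := fun {T} => Equiv.ofBijective (fun k => F.map k.op (E₀.2 : F.obj (op G)))
                  ⟨fun k k' e => ?_, fun s => ?_⟩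
                homEquiv_comp := fun k k' => (map_map_op F k k' _).symm }⟩⟩
  · refine Over.OverMorphism.ext (E.homEquiv.injective ?_)
    have h1 : ∀ m : T ⟶ G, totMap F m.left E₀ = (⟨T.hom, F.map m.op E₀.2⟩ : Tot F T.left) :=
      fun m => (totMap_eq_iff _ _ _).2 ⟨Over.w m, rfl⟩
    change F.map k.op E₀.2 = F.map k'.op E₀.2 at e
    rw [hE, hE, h1, h1, e]
  · obtain ⟨k, hk⟩ := E.homEquiv.surjective (⟨T.hom, s⟩ : Tot F T.left)
    rw [hE] at hk
    obtain ⟨h1, h2⟩ := (totMap_eq_iff _ _ _).1 hk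
    exact ⟨(Over.homMk k h1 : T ⟶ G), h2⟩

end Groth.Agent.H8Props.WeilRes
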