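import Mathlib
import Groth.Agent.H18Et.GammaBC

/-! Global sections of the base change of a finite free affine morphism to an arbitrary scheme. -/

set_option autoImplicit false
set_option linter.style.haveILetI false

universe u

open CategoryTheory CategoryTheory.Limits AlgebraicGeometry TopologicalSpace

namespace Groth.Agent.H8Props.WeilRes

set_option backward.isDefEq.respectTransparency false

section Ring

variable {A B G C : CommRingCat.{u}} {a : A ⟶ G} {b : A ⟶ B} {c : G ⟶ C} {d : B ⟶ C}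

theorem bijective_coord_pushout (h : IsPushout a b c d) {ι : Type*} [Fintype ι] (e : ι → B)
    (he : Function.Bijective fun r : ι → A => ∑ i, b (r i) * e i) :
    Function.Bijective fun γ : ι → G => ∑ i, c (γ i) * d (e i) := by
  classical
  letI := a.hom.toAlgebra
  letI := b.hom.toAlgebra
  letI := c.hom.toAlgebra
  letI : Algebra A C := (c.hom.comp a.hom).toAlgebra
  haveI : IsScalarTower A G C := IsScalarTower.of_algebraMap_eq fun _ => rfl
  obtain ⟨δ, hδ, hbc⟩ := Groth.Agent.H18Et.GammaBC.isBaseChange_of_isPushout h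
  let eA : (ι → A) →ₗ[A] B :=
    { toFun := fun r => ∑ i, b (r i) * e i
      map_add' := fun r s => by simp [add_mul, Finset.sum_add_distrib]
      map_smul' := fun x r => by
        simp only [Pi.smul_apply, smul_eq_mul, map_mul, RingHom.id_apply, Finset.mul_sum,
          Algebra.smul_def, mul_assoc]
        rfl }
  let bas : Module.Basis ι A B := Module.Basis.ofEquivFun (LinearEquiv.ofBijective eA he).symm
  have hbas : ∀ i, bas i = e i := fun i => by
    show ∑ j, b ((Pi.single i 1 : ι → A) j) * e j = e i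
    rw [Finset.sum_eq_single i (fun j _ hj => by simp [Pi.single_eq_of_ne hj]) (by simp)]
    simp
  let bC : Module.Basis ι G C := hbc.basis bas
  have hbC : ∀ i, bC i = d (e i) := fun i => by
    rw [show bC i = δ (bas i) from hbc.basis_apply bas i, hδ, hbas]
  convert bC.equivFun.symm.bijective using 1
  funext γ
  rw [Module.Basis.equivFun_symm_apply]
  refine Finset.sum_congr rfl fun i _ => ?_
  rw [hbC, Algebra.smul_def]
  rfl

end Ring

variable {Z S T P : Scheme.{u}} [IsAffine S] [IsAffine Z] {g : Z ⟶ S} {t : T ⟶ S}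
  {q : P ⟶ T} {p : P ⟶ Z} {ι : Type*} [Fintype ι]

/-- The coordinate map in a global basis. -/
noncomputable def coord (q : P ⟶ T) (p : P ⟶ Z) (e : ι → Γ(Z, ⊤)) (γ : ι → Γ(T, ⊤)) : Γ(P, ⊤) :=
  ∑ i, q.appTop (γ i) * p.appTop (e i)

/-- The coordinate map on an open subscheme of the base. -/
noncomputable def coordAt (q : P ⟶ T) (p : P ⟶ Z) (e : ι → Γ(Z, ⊤)) (V : T.Opens)
    (γ : ι → Γ(T, V)) : Γ(P, q ⁻¹ᵁ V) :=
  ∑ i, q.app V (γ i) * p.appLE ⊤ (q ⁻¹ᵁ V) le_top (e i)

omit [IsAffine Z] in
theorem coordAt_restrict (e : ι → Γ(Z, ⊤)) {V V' : T.Opens} (h : V' ≤ V) (γ : ι → Γ(T, V)) :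
    P.presheaf.map (homOfLE (q.preimage_mono h)).op (coordAt q p e V γ) =
      coordAt q p e V' fun i => T.presheaf.map (homOfLE h).op (γ i) := by
  unfold coordAt
  rw [map_sum]
  refine Finset.sum_congr rfl fun i _ => ?_
  rw [map_mul]
  congr 1
  · exact (ConcreteCategory.congr_hom (q.naturality (homOfLE h).op) (γ i)).symm
  · rw [← ConcreteCategory.comp_apply, Scheme.Hom.appLE_map]

theorem bijective_coordAt (H : IsPullback q p t g) (e : ι → Γ(Z, ⊤))
    (he : Function.Bijective fun r : ι → Γ(S, ⊤) => ∑ i, g.appTop (r i) * e i)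
    (V : T.Opens) (hV : IsAffineOpen V) : Function.Bijective (coordAt q p e V) := by
  have hle : q ⁻¹ᵁ V ≤ p ⁻¹ᵁ (⊤ : Z.Opens) := le_top
  have hpo : IsPushout (t.appLE ⊤ V le_top) (g.appLE ⊤ ⊤ le_top)
      (q.appLE V (q ⁻¹ᵁ V) le_rfl) (p.appLE ⊤ (q ⁻¹ᵁ V) hle) :=
    (isIso_pushoutSection_iff H (US := ⊤) (UT := (⊤ : Z.Opens)) (UX := V) (UY := q ⁻¹ᵁ V) le_top
      le_top (inf_eq_left.mpr hle).symm).mp
      (isIso_pushoutSection_of_isAffineOpen H le_top le_top _ (isAffineOpen_top S)
        (isAffineOpen_top Z) hV)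
  have hg : g.appLE ⊤ ⊤ le_top = g.appTop := Scheme.Hom.appLE_eq_app g
  have h := bijective_coord_pushout hpo e (by rw [hg]; exact he)
  convert h using 1
  funext γ
  exact Finset.sum_congr rfl fun i _ => by rw [Scheme.Hom.appLE_eq_app]

theorem bijective_coord (H : IsPullback q p t g) (e : ι → Γ(Z, ⊤))
    (he : Function.Bijective fun r : ι → Γ(S, ⊤) => ∑ i, g.appTop (r i) * e i) :
    Function.Bijective (coord q p e) := by
  have hV := fun V : T.affineOpens => bijective_coordAt H e he V.1 V.2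
  have hcov : (⊤ : T.Opens) ≤ ⨆ V : T.affineOpens, V.1 := (iSup_affineOpens_eq_top T).ge
  have hcov' : (⊤ : P.Opens) ≤ ⨆ V : T.affineOpens, q ⁻¹ᵁ V.1 := by
    rw [← Scheme.Hom.preimage_iSup]
    exact q.preimage_mono hcov
  have hres : ∀ (V : T.Opens) (γ : ι → Γ(T, ⊤)),
      P.presheaf.map (homOfLE (q.preimage_mono (le_top : V ≤ ⊤))).op (coord q p e γ) =
        coordAt q p e V fun i => T.presheaf.map (homOfLE le_top).op (γ i) := by
    intro V γ
    rw [← coordAt_restrict]
    congr 1
    exact Finset.sum_congr rfl fun i _ => congrArg (q.appTop (γ i) * ·)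
      (ConcreteCategory.congr_hom (Scheme.Hom.appLE_eq_app p (U := (⊤ : Z.Opens))).symm (e i))
  refine ⟨fun γ γ' h => funext fun i => ?_, fun z => ?_⟩
  · refine T.sheaf.eq_of_locally_eq' (fun V : T.affineOpens => V.1) _ (fun V => homOfLE le_top)
      hcov _ _ fun V => ?_
    have h' := congrArg (P.presheaf.map (homOfLE (q.preimage_mono (le_top : V.1 ≤ ⊤))).op) h
    rw [hres, hres] at h'
    exact congrFun ((hV V).1 h') i
  · choose δ hδ using fun V : T.affineOpens =>
      (hV V).2 (P.presheaf.map (homOfLE (q.preimage_mono (le_top : V.1 ≤ ⊤))).op z)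
    have hcomp : ∀ (V V' : T.affineOpens) (W : T.affineOpens) (h : W.1 ≤ V.1) (h' : W.1 ≤ V'.1)
        (i : ι), T.presheaf.map (homOfLE h).op (δ V i) = T.presheaf.map (homOfLE h').op (δ V' i) := by
      intro V V' W h h' i
      refine congrFun (g := fun i => T.presheaf.map (homOfLE h').op (δ V' i))
        ((hV W).1 (a₁ := fun i => T.presheaf.map (homOfLE h).op (δ V i)) ?_) i
      rw [← coordAt_restrict e h, ← coordAt_restrict e h', hδ, hδ]
      rw [Groth.Agent.H18Et.GammaBC.map_map _ _ (homOfLE (q.preimage_mono (le_top : W.1 ≤ ⊤))).op,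
        Groth.Agent.H18Et.GammaBC.map_map _ _ (homOfLE (q.preimage_mono (le_top : W.1 ≤ ⊤))).op]
    have hglue : ∀ i, ∃ α : Γ(T, ⊤), ∀ V : T.affineOpens,
        T.presheaf.map (homOfLE le_top).op α = δ V i := by
      intro i
      obtain ⟨α, hα, -⟩ := T.sheaf.existsUnique_gluing' (fun V : T.affineOpens => V.1) ⊤
        (fun V => homOfLE le_top) hcov (fun V => δ V i) (fun V V' => by
          refine T.sheaf.eq_of_locally_eq' (fun W : {W : T.affineOpens // W.1 ≤ V.1 ⊓ V'.1} => W.1.1)
            _ (fun W => homOfLE W.2) ?_ _ _ fun W => ?_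
          · intro x hx
            obtain ⟨W, hW, hxW, hWle⟩ :=
              exists_isAffineOpen_mem_and_subset (x := x) (U := V.1 ⊓ V'.1) hx
            exact Opens.mem_iSup.mpr ⟨⟨⟨W, hW⟩, hWle⟩, hxW⟩
          · have h1 := Groth.Agent.H18Et.GammaBC.map_map (Y := T) (Opens.infLELeft V.1 V'.1).op
              (homOfLE W.2).op (homOfLE (W.2.trans inf_le_left)).op (δ V i)
            have h2 := Groth.Agent.H18Et.GammaBC.map_map (Y := T) (Opens.infLERight V.1 V'.1).op
              (homOfLE W.2).op (homOfLE (W.2.trans inf_le_right)).op (δ V' i)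
            exact h1.trans ((hcomp V V' W.1 _ _ i).trans h2.symm))
      exact ⟨α, hα⟩
    choose α hα using hglue
    refine ⟨α, P.sheaf.eq_of_locally_eq' (fun V : T.affineOpens => q ⁻¹ᵁ V.1) ⊤
      (fun V => homOfLE le_top) hcov' _ _ fun V => ?_⟩
    refine (hres V.1 α).trans ?_
    rw [funext fun i => hα i V]
    exact hδ V

end Groth.Agent.H8Props.WeilRes
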