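import Mathlib
import Groth.Prelude.Def_Flatn
import Groth.Agent.H8Props.WeilRes.Coord

/-! Representability of the functor of relative morphisms from a finite free affine scheme to an
affine scheme. -/

set_option autoImplicit false
set_option linter.style.haveILetI false

universe u

open CategoryTheory CategoryTheory.Limits AlgebraicGeometry Opposite

namespace Groth.Agent.H8Props.WeilRes

set_option backward.isDefEq.respectTransparency false
set_option backward.isDefEq.respectTransparency.types false

/-- The morphism into an affine scheme with prescribed map on global sections. -/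
noncomputable def toAffine {T X : Scheme.{u}} [IsAffine X] (φ : Γ(X, ⊤) ⟶ Γ(T, ⊤)) : T ⟶ X :=
  T.toSpecΓ ≫ Spec.map φ ≫ X.isoSpec.inv

theorem appTop_toAffine {T X : Scheme.{u}} [IsAffine X] (φ : Γ(X, ⊤) ⟶ Γ(T, ⊤)) :
    (toAffine φ).appTop = φ := by
  have h : X.isoSpec.inv.appTop = (Scheme.ΓSpecIso Γ(X, ⊤)).inv := by
    rw [← cancel_mono X.isoSpec.hom.appTop, ← Scheme.Hom.comp_appTop, Iso.hom_inv_id]
    simp [Scheme.isoSpec_hom]
  unfold toAffine
  rw [Scheme.Hom.comp_appTop, Scheme.Hom.comp_appTop, h, Scheme.toSpecΓ_appTop,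
    Category.assoc, Scheme.ΓSpecIso_naturality, Iso.inv_hom_id_assoc]

variable {Z X S : Scheme.{u}} [IsAffine S] [IsAffine Z] [IsAffine X] (g : Z ⟶ S) (f : X ⟶ S)
  {ι : Type u} [Fintype ι]

/-- The functor of relative morphisms from a finite free affine scheme to an affine scheme is
represented by an affine scheme. -/
theorem exists_representableBy (e : ι → Γ(Z, ⊤))
    (he : Function.Bijective fun r : ι → Γ(S, ⊤) => ∑ i, g.appTop (r i) * e i) :
    ∃ W : Over S, IsAffine W.left ∧ Nonempty ((Flatn.morS g f).RepresentableBy W) := by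
  classical
  let A := Γ(S, ⊤)
  let R := Γ(X, ⊤)
  let P := MvPolynomial (R × ι) A
  -- coordinates over an arbitrary base
  have hbij := fun (T : Over S) =>
    bijective_coord (IsPullback.of_hasPullback T.hom g) e he
  have hnat : ∀ {T' T : Over S} (h : T' ⟶ T) (γ : ι → Γ(T.left, ⊤)),
      ((Over.pullback g).map h).left.appTop
          (coord (pullback.fst T.hom g) (pullback.snd T.hom g) e γ) =
        coord (pullback.fst T'.hom g) (pullback.snd T'.hom g) e fun i => h.left.appTop (γ i) := by
    intro T' T h γ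
    unfold coord
    rw [map_sum]
    refine Finset.sum_congr rfl fun i _ => ?_
    rw [map_mul]
    congr 1
    · rw [← ConcreteCategory.comp_apply, ← ConcreteCategory.comp_apply, ← Scheme.Hom.comp_appTop,
        ← Scheme.Hom.comp_appTop]
      exact congrArg (fun m : _ ⟶ T.left => m.appTop (γ i)) (pullback.lift_fst _ _ _)
    · rw [← ConcreteCategory.comp_apply, ← Scheme.Hom.comp_appTop]
      exact congrArg (fun m : _ ⟶ Z => m.appTop (e i)) (pullback.lift_snd _ _ _)
  -- structure maps on sections
  let str : ∀ T : Over S, A ⟶ Γ((((Over.pullback g).obj T)).left, ⊤) := fun T =>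
    (pullback.snd T.hom g ≫ g).appTop
  have hstr : ∀ {T' T : Over S} (h : T' ⟶ T) (a : A),
      ((Over.pullback g).map h).left.appTop (str T a) = str T' a := by
    intro T' T h a
    rw [← ConcreteCategory.comp_apply, ← Scheme.Hom.comp_appTop]
    refine congrArg (fun m : _ ⟶ S => m.appTop a) ?_
    exact pullback.lift_snd_assoc _ _ _ _
  -- the ambient affine space
  let W0 : Over S := Over.mk (Y := Spec (CommRingCat.of P))
    (Spec.map (CommRingCat.ofHom (algebraMap A P)) ≫ S.isoSpec.inv)
  let κ : P →+* Γ(W0.left, ⊤) := (Scheme.ΓSpecIso (CommRingCat.of P)).inv.hom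
  let φ : R → Γ(((Over.pullback g).obj W0).left, ⊤) := fun r =>
    coord (pullback.fst W0.hom g) (pullback.snd W0.hom g) e fun i => κ (MvPolynomial.X (r, i))
  let κ' : Γ(W0.left, ⊤) →+* P := (Scheme.ΓSpecIso (CommRingCat.of P)).hom.hom
  choose crd hcrd using (hbij W0).2
  let rel : Set Γ(((Over.pullback g).obj W0).left, ⊤) :=
    {z | (∃ r r', z = φ (r + r') - (φ r + φ r')) ∨ (∃ r r', z = φ (r * r') - φ r * φ r') ∨
      ∃ a, z = φ (f.appTop a) - str W0 a}
  let I : Ideal P := Ideal.span {x | ∃ z ∈ rel, ∃ i, x = κ' (crd z i)}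
  let q : P →+* P ⧸ I := Ideal.Quotient.mk I
  let W : Over S := Over.mk (Y := Spec (CommRingCat.of (P ⧸ I)))
    (Spec.map (CommRingCat.ofHom (q.comp (algebraMap A P))) ≫ S.isoSpec.inv)
  let j : W ⟶ W0 := Over.homMk (Spec.map (CommRingCat.ofHom q)) (by
    simp only [W, W0, Over.mk_hom, ← Category.assoc, ← Spec.map_comp, ← CommRingCat.ofHom_comp])
  haveI : IsAffine W.left := isAffine_Spec (CommRingCat.of (P ⧸ I))
  haveI : IsAffine W0.left := isAffine_Spec (CommRingCat.of P)
  haveI : IsAffine (Over.mk f).left := inferInstanceAs (IsAffine X)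
  -- behaviour of points
  have hjt : ∀ x, j.left.appTop (κ x) = (Scheme.ΓSpecIso (CommRingCat.of (P ⧸ I))).inv (q x) := by
    intro x
    exact (ConcreteCategory.congr_hom
      (Scheme.ΓSpecIso_inv_naturality (CommRingCat.ofHom q)) x).symm
  have hkill : ∀ z ∈ rel, ((Over.pullback g).map j).left.appTop z = 0 := by
    intro z hz
    rw [← hcrd z, hnat]
    unfold coord
    refine Finset.sum_eq_zero fun i _ => ?_
    have h1 : κ (κ' (crd z i)) = crd z i :=
      ConcreteCategory.congr_hom (Scheme.ΓSpecIso (CommRingCat.of P)).hom_inv_id _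
    have h2 : q (κ' (crd z i)) = 0 :=
      Ideal.Quotient.eq_zero_iff_mem.2 (Ideal.subset_span ⟨z, hz, i, rfl⟩)
    dsimp only
    rw [← h1, hjt, h2, map_zero, map_zero, zero_mul]
  let π : Γ(((Over.pullback g).obj W0).left, ⊤) →+* Γ(((Over.pullback g).obj W).left, ⊤) :=
    ((Over.pullback g).map j).left.appTop.hom
  have hadd : ∀ r r', π (φ (r + r')) = π (φ r) + π (φ r') := fun r r' => sub_eq_zero.1 (by
    rw [← map_add, ← map_sub]; exact hkill _ (Or.inl ⟨r, r', rfl⟩))
  have hmul : ∀ r r', π (φ (r * r')) = π (φ r) * π (φ r') := fun r r' => sub_eq_zero.1 (by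
    rw [← map_mul, ← map_sub]; exact hkill _ (Or.inr (Or.inl ⟨r, r', rfl⟩)))
  have hf : ∀ a, π (φ (f.appTop a)) = str W a := fun a => by
    have := sub_eq_zero.1 ((map_sub π _ _).symm.trans (hkill _ (Or.inr (Or.inr ⟨a, rfl⟩))))
    exact this.trans (hstr j a)
  have hone : π (φ 1) = 1 := by
    have := hf 1
    rwa [map_one, map_one] at this
  let uR : R →+* Γ(((Over.pullback g).obj W).left, ⊤) :=
    { toFun := fun r => π (φ r)
      map_one' := hone
      map_mul' := hmul
      map_zero' := by
        have := hadd 0 0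
        rw [add_zero] at this
        exact left_eq_add.1 this
      map_add' := hadd }
  -- the universal element
  let u : (Flatn.morS g f).obj (op W) :=
    Over.homMk (U := (Over.map g).obj ((Over.pullback g).obj W)) (V := Over.mk f)
      (toAffine (X := X) (CommRingCat.ofHom uR)) (ext_of_isAffine (by
        rw [Scheme.Hom.comp_appTop]
        change f.appTop ≫ (toAffine (CommRingCat.ofHom uR)).appTop = _
        rw [appTop_toAffine]
        ext a
        exact hf a))
  have hu : ∀ (T : Over S) (h : T ⟶ W) (r : R),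
      ((Flatn.morS g f).map h.op u).left.appTop r =
        coord (pullback.fst T.hom g) (pullback.snd T.hom g) e
          fun i => (h ≫ j).left.appTop (κ (MvPolynomial.X (r, i))) := by
    intro T h r
    have h1 : ((Flatn.morS g f).map h.op u).left =
        ((Over.pullback g).map h).left ≫ toAffine (X := X) (CommRingCat.ofHom uR) := by
      rw [Flatn.morS_map]
      rfl
    rw [h1, Scheme.Hom.comp_appTop, appTop_toAffine, ← hnat (h ≫ j), Functor.map_comp,
      Over.comp_left, Scheme.Hom.comp_appTop]
    rfl
  refine ⟨W, isAffine_Spec _, ⟨{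
    homEquiv := fun {T} => Equiv.ofBijective (fun h => (Flatn.morS g f).map h.op u)
      ⟨fun h h' hh => ?_, fun b => ?_⟩
    homEquiv_comp := fun h h' => by
      change (Flatn.morS g f).map (h ≫ h').op u = _
      rw [op_comp, Functor.map_comp]
      rfl }⟩⟩
  · -- injectivity
    have hX : ∀ r i, (h ≫ j).left.appTop (κ (MvPolynomial.X (r, i))) =
        (h' ≫ j).left.appTop (κ (MvPolynomial.X (r, i))) := by
      intro r i
      refine congrFun ((hbij T).1 (a₁ := fun i => (h ≫ j).left.appTop (κ (MvPolynomial.X (r, i))))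
        (a₂ := fun i => (h' ≫ j).left.appTop (κ (MvPolynomial.X (r, i)))) ?_) i
      rw [← hu, ← hu]
      exact congrArg (fun b : (Flatn.morS g f).obj (op T) => b.left.appTop r) hh
    have hring : ((h ≫ j).left.appTop.hom.comp κ) = ((h' ≫ j).left.appTop.hom.comp κ) := by
      refine MvPolynomial.ringHom_ext (fun a => ?_) fun ⟨r, i⟩ => hX r i
      have e1 : ∀ k : T ⟶ W0, k.left.appTop (κ (MvPolynomial.C a)) = T.hom.appTop a := by
        intro k
        have h3 : W0.hom.appTop a = κ (MvPolynomial.C a) := by
          have h4 : W0.hom = toAffine (T := Spec (CommRingCat.of P))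
              (CommRingCat.ofHom (algebraMap A P) ≫ (Scheme.ΓSpecIso (CommRingCat.of P)).inv) := by
            refine ext_of_isAffine ?_
            rw [appTop_toAffine]
            change (Spec.map (CommRingCat.ofHom (algebraMap A P)) ≫ S.isoSpec.inv).appTop = _
            rw [show S.isoSpec.inv = toAffine (X := S) (Scheme.ΓSpecIso A).inv from ext_of_isAffine
              (by
                rw [appTop_toAffine, ← cancel_mono S.isoSpec.hom.appTop, ← Scheme.Hom.comp_appTop,
                  Iso.hom_inv_id]
                simp [A, Scheme.isoSpec_hom]), Scheme.Hom.comp_appTop, appTop_toAffine]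
            exact (Scheme.ΓSpecIso_inv_naturality (CommRingCat.ofHom (algebraMap A P))).symm
          rw [h4, appTop_toAffine]
          rfl
        rw [← h3, ← ConcreteCategory.comp_apply, ← Scheme.Hom.comp_appTop, Over.w k]
      exact (e1 (h ≫ j)).trans (e1 (h' ≫ j)).symm
    apply Over.OverMorphism.ext
    refine ext_of_isAffine ?_
    ext x
    obtain ⟨y, hy⟩ : ∃ y, (Scheme.ΓSpecIso (CommRingCat.of (P ⧸ I))).inv (q y) = x := by
      obtain ⟨y, hy⟩ := Ideal.Quotient.mk_surjective ((Scheme.ΓSpecIso (CommRingCat.of (P ⧸ I))).hom x)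
      refine ⟨y, ?_⟩
      rw [show q y = _ from hy]
      exact ConcreteCategory.congr_hom (Scheme.ΓSpecIso _).hom_inv_id x
    rw [← hy, ← hjt]
    exact RingHom.congr_fun hring y
  · -- surjectivity
    let t : R →+* Γ(((Over.pullback g).obj T).left, ⊤) := b.left.appTop.hom
    have ht : ∀ a, t (f.appTop a) = str T a := fun a => by
      show (f.appTop ≫ b.left.appTop) a = _
      exact congrArg (fun m : _ ⟶ S => m.appTop a) (Over.w b)
    choose v hv using fun r => (hbij T).2 (t r)
    let θ : P →+* Γ(T.left, ⊤) := MvPolynomial.eval₂Hom T.hom.appTop.hom fun p => v p.1 p.2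
    let h0 : T ⟶ W0 := Over.homMk (toAffine (X := Spec (CommRingCat.of P))
      ((Scheme.ΓSpecIso (CommRingCat.of P)).hom ≫ CommRingCat.ofHom θ)) (ext_of_isAffine (by
        have h3 : W0.hom.appTop =
            CommRingCat.ofHom (algebraMap A P) ≫ (Scheme.ΓSpecIso (CommRingCat.of P)).inv := by
          change (Spec.map (CommRingCat.ofHom (algebraMap A P)) ≫ S.isoSpec.inv).appTop = _
          rw [Scheme.Hom.comp_appTop, show S.isoSpec.inv.appTop = (Scheme.ΓSpecIso A).inv from by
            rw [← cancel_mono S.isoSpec.hom.appTop, ← Scheme.Hom.comp_appTop, Iso.hom_inv_id]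
            simp [A, Scheme.isoSpec_hom]]
          exact (Scheme.ΓSpecIso_inv_naturality _).symm
        rw [Scheme.Hom.comp_appTop, appTop_toAffine, h3, Category.assoc, Iso.inv_hom_id_assoc,
          ← CommRingCat.ofHom_comp]
        ext a
        exact MvPolynomial.eval₂Hom_C _ _ a))
    have h0κ : ∀ x, h0.left.appTop (κ x) = θ x := fun x => by
      show (toAffine _).appTop _ = _
      rw [appTop_toAffine, ConcreteCategory.comp_apply]
      exact congrArg θ (ConcreteCategory.congr_hom (Scheme.ΓSpecIso (CommRingCat.of P)).inv_hom_id x)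
    have hpt : ∀ r, ((Over.pullback g).map h0).left.appTop (φ r) = t r := fun r => by
      rw [hnat, ← hv r]
      congr 1
      funext i
      exact (h0κ _).trans (MvPolynomial.eval₂Hom_X' _ _ _)
    have hI : ∀ x ∈ I, θ x = 0 := by
      intro x hx
      refine (RingHom.mem_ker).1 ((Ideal.span_le.2 ?_) hx)
      rintro _ ⟨z, hz, i, rfl⟩
      have hz0 : ((Over.pullback g).map h0).left.appTop z = 0 := by
        rcases hz with ⟨r, r', rfl⟩ | ⟨r, r', rfl⟩ | ⟨a, rfl⟩
        · rw [map_sub, map_add, hpt, hpt, hpt, map_add, sub_self]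
        · rw [map_sub, map_mul, hpt, hpt, hpt, map_mul, sub_self]
        · rw [map_sub, hpt, ht, hstr, sub_self]
      rw [← hcrd z, hnat] at hz0
      have hzero : coord (pullback.fst T.hom g) (pullback.snd T.hom g) e (fun _ => 0) = 0 := by
        unfold coord; simp
      have := congrFun ((hbij T).1 (hz0.trans hzero.symm)) i
      rw [SetLike.mem_coe, RingHom.mem_ker, ← h0κ]
      exact (congrArg h0.left.appTop (ConcreteCategory.congr_hom
        (Scheme.ΓSpecIso (CommRingCat.of P)).hom_inv_id (crd z i))).trans this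
    let h : T ⟶ W := Over.homMk (toAffine (X := Spec (CommRingCat.of (P ⧸ I)))
      ((Scheme.ΓSpecIso (CommRingCat.of (P ⧸ I))).hom ≫ CommRingCat.ofHom (Ideal.Quotient.lift I θ hI)))
      (by
        rw [← Over.w h0]
        rw [show h0.left = toAffine (X := Spec (CommRingCat.of (P ⧸ I)))
            ((Scheme.ΓSpecIso (CommRingCat.of (P ⧸ I))).hom ≫
              CommRingCat.ofHom (Ideal.Quotient.lift I θ hI)) ≫ j.left from ext_of_isAffine (by
          ext x
          obtain ⟨y, rfl⟩ : ∃ y, κ y = x :=
            ⟨κ' x, ConcreteCategory.congr_hom (Scheme.ΓSpecIso _).hom_inv_id x⟩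
          rw [h0κ, Scheme.Hom.comp_appTop, ConcreteCategory.comp_apply]
          refine ((congrArg _ (hjt y)).trans ?_).symm
          rw [appTop_toAffine, ConcreteCategory.comp_apply]
          exact (congrArg (Ideal.Quotient.lift I θ hI) (ConcreteCategory.congr_hom
            (Scheme.ΓSpecIso (CommRingCat.of (P ⧸ I))).inv_hom_id (q y))).trans
            (Ideal.Quotient.lift_mk I θ hI)), Category.assoc, Over.w j])
    refine ⟨h, Over.OverMorphism.ext (ext_of_isAffine ?_)⟩
    ext r
    change ((Flatn.morS g f).map h.op u).left.appTop r = t r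
    rw [hu, ← hv r]
    congr 1
    funext i
    rw [Over.comp_left, Scheme.Hom.comp_appTop, ConcreteCategory.comp_apply, hjt]
    change (toAffine _).appTop _ = _
    rw [appTop_toAffine, ConcreteCategory.comp_apply]
    refine ((congrArg (Ideal.Quotient.lift I θ hI) (ConcreteCategory.congr_hom
      (Scheme.ΓSpecIso (CommRingCat.of (P ⧸ I))).inv_hom_id (q (MvPolynomial.X (r, i))))).trans
      (Ideal.Quotient.lift_mk I θ hI)).trans ?_
    exact MvPolynomial.eval₂Hom_X' T.hom.appTop.hom (fun p => v p.1 p.2) (r, i)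

end Groth.Agent.H8Props.WeilRes
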