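import Mathlib
import Groth.Prelude.Def_Flatn
import Groth.Prelude.Def_Mor2
import Groth.Agent.H8Props.WeilRes.Affine
import Groth.Agent.H8Props.WeilRes.Glue
import Groth.Agent.H17.MorSBaseChange

/-! Relative morphisms from a finite locally free scheme to a scheme affine over the base form a
scheme affine over the base. -/

set_option autoImplicit false
set_option linter.style.haveILetI false

universe u

open CategoryTheory CategoryTheory.Limits AlgebraicGeometry Opposite TopologicalSpace

namespace Groth.Agent.H8Props.WeilRes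

set_option backward.isDefEq.respectTransparency false
set_option backward.isDefEq.respectTransparency.types false

variable {Z X S : Scheme.{u}} (g : Z ⟶ S) (f : X ⟶ S)

theorem isPullback_pullback_map {T T' : Over S} (π : T' ⟶ T) :
    IsPullback ((Over.pullback g).map π).left (pullback.fst T'.hom g) (pullback.fst T.hom g) π.left :=
  IsPullback.of_right
    (by
      rw [show ((Over.pullback g).map π).left ≫ pullback.snd T.hom g = pullback.snd T'.hom g from
        pullback.lift_snd _ _ _, Over.w π]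
      exact (IsPullback.of_hasPullback T'.hom g).flip)
    (pullback.lift_fst _ _ _) (IsPullback.of_hasPullback T.hom g).flip

theorem isZariskiGluing_morS : IsZariskiGluing (Flatn.morS g f) := by
  intro T κ C π ho hc s hs
  let L : Over S ⥤ Over S := Over.pullback g ⋙ Over.map g
  have ho' : ∀ i, IsOpenImmersion (L.map (π i)).left := fun i =>
    MorphismProperty.of_isPullback (isPullback_pullback_map g (π i)).flip (ho i)
  have hc' : ∀ x : (L.obj T).left, ∃ i, x ∈ Set.range (L.map (π i)).left := fun x => by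
    obtain ⟨i, y, hy⟩ := hc (pullback.fst T.hom g x)
    obtain ⟨z, hz, -⟩ := Scheme.exists_preimage_of_isPullback (isPullback_pullback_map g (π i))
      x y hy.symm
    exact ⟨i, z, hz⟩
  refine isZariskiGluing_yoneda (Over.mk f) (L.obj T) κ (fun i => L.obj (C i))
    (fun i => L.map (π i)) ho' hc' s fun i j Q a b e => ?_
  let Q' : Over S := Over.mk (a.left ≫ pullback.fst (C i).hom g ≫ (C i).hom)
  have eP : (a.left ≫ pullback.fst (C i).hom g) ≫ (π i).left =
      (b.left ≫ pullback.fst (C j).hom g) ≫ (π j).left := by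
    rw [Category.assoc, Category.assoc, ← (isPullback_pullback_map g (π i)).w,
      ← (isPullback_pullback_map g (π j)).w, ← Category.assoc, ← Category.assoc]
    exact congrArg (fun k : Q ⟶ L.obj T => k.left ≫ pullback.fst T.hom g) e
  have hsnd : a.left ≫ pullback.snd (C i).hom g = b.left ≫ pullback.snd (C j).hom g := by
    have h := congrArg (fun k : Q ⟶ L.obj T => k.left ≫ pullback.snd T.hom g) e
    simpa [L] using h
  let a' : Q' ⟶ C i := Over.homMk (a.left ≫ pullback.fst (C i).hom g) (Category.assoc _ _ _)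
  let b' : Q' ⟶ C j := Over.homMk (b.left ≫ pullback.fst (C j).hom g) (by
    show (b.left ≫ pullback.fst _ _) ≫ (C j).hom = a.left ≫ pullback.fst _ _ ≫ (C i).hom
    have h := congrArg (· ≫ T.hom) eP.symm
    simp only [Category.assoc, Over.w] at h ⊢
    exact h)
  let σ : Q ⟶ L.obj Q' := Over.homMk (pullback.lift (𝟙 _) (a.left ≫ pullback.snd (C i).hom g) (by
    show 𝟙 _ ≫ a.left ≫ pullback.fst _ _ ≫ (C i).hom = _
    rw [Category.id_comp, Category.assoc, pullback.condition])) (by
    show pullback.lift _ _ _ ≫ pullback.snd _ _ ≫ g = Q.hom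
    rw [pullback.lift_snd_assoc, Category.assoc]
    exact Over.w a)
  have ha : σ ≫ L.map a' = a := Over.OverMorphism.ext (pullback.hom_ext
    (by simp [L, σ, a']; exact Category.id_comp _) (by simp [L, σ, a']))
  have hb : σ ≫ L.map b' = b := Over.OverMorphism.ext (pullback.hom_ext
    (by simp [L, σ, b']; exact Category.id_comp _) (by simpa [L, σ, b'] using hsnd))
  have h1 := hs i j Q' a' b' (Over.OverMorphism.ext eP)
  show (a ≫ s i : Q ⟶ Over.mk f) = b ≫ s j
  rw [← ha, ← hb, Category.assoc, Category.assoc]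
  exact congrArg (σ ≫ ·) h1

/-- The opens over which a morphism is affine and free. -/
def FreeOpens : Set S.Opens :=
  {V | IsAffineOpen V ∧ ∃ (ι : Type u) (_ : Fintype ι) (e : ι → Γ(Z, g ⁻¹ᵁ V)),
    Function.Bijective fun r : ι → Γ(S, V) => ∑ i, g.app V (r i) * e i}

theorem isBasis_freeOpens [IsFinite g] [Flat g] [LocallyOfFinitePresentation g] :
    Opens.IsBasis (FreeOpens g) := by
  rw [Opens.isBasis_iff_nbhd]
  intro U x hx
  obtain ⟨V, hV, hxV, hVU⟩ := exists_isAffineOpen_mem_and_subset (x := x) (U := U) hx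
  let B := Γ(Z, g ⁻¹ᵁ V)
  letI : Algebra Γ(S, V) B := (g.app V).hom.toAlgebra
  haveI : Module.Finite Γ(S, V) B := g.finite_app V hV
  haveI : Module.Flat Γ(S, V) B := by
    have := g.flat_appLE hV (hV.preimage g) le_rfl
    rw [Scheme.Hom.appLE_eq_app] at this
    exact this
  haveI : Algebra.FinitePresentation Γ(S, V) B := by
    have := g.finitePresentation_appLE hV (hV.preimage g) le_rfl
    rw [Scheme.Hom.appLE_eq_app] at this
    exact this
  haveI : Module.FinitePresentation Γ(S, V) B :=
    Module.FinitePresentation.of_finite_of_finitePresentation _ _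
  let p := hV.primeIdealOf ⟨x, hxV⟩
  haveI : Module.Free (Localization.AtPrime p.asIdeal) (LocalizedModule p.asIdeal.primeCompl B) :=
    Module.free_of_flat_of_isLocalRing
  obtain ⟨r, hr, hfree, -⟩ := Module.FinitePresentation.exists_free_localizedModule_powers
    p.asIdeal.primeCompl (LocalizedModule.mkLinearMap p.asIdeal.primeCompl B)
    (Localization.AtPrime p.asIdeal)
  have hxD : x ∈ S.basicOpen r := by
    have h := hV.fromSpec_primeIdealOf ⟨x, hxV⟩
    rw [show x = hV.fromSpec p from h.symm]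
    show p ∈ hV.fromSpec ⁻¹ᵁ S.basicOpen r
    rw [hV.fromSpec_preimage_basicOpen]
    exact hr
  refine ⟨S.basicOpen r, ⟨hV.basicOpen r, ?_⟩, hxD, (S.basicOpen_le r).trans hVU⟩
  have hD : g ⁻¹ᵁ S.basicOpen r = Z.basicOpen (g.app V r) := Scheme.preimage_basicOpen g r
  letI : Algebra Γ(S, V) Γ(S, S.basicOpen r) :=
    (S.presheaf.map (homOfLE (S.basicOpen_le r)).op).hom.toAlgebra
  letI : Algebra B Γ(Z, g ⁻¹ᵁ S.basicOpen r) :=
    (Z.presheaf.map (homOfLE (g.preimage_mono (S.basicOpen_le r))).op).hom.toAlgebra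
  letI : Algebra Γ(S, S.basicOpen r) Γ(Z, g ⁻¹ᵁ S.basicOpen r) := (g.app _).hom.toAlgebra
  letI : Algebra Γ(S, V) Γ(Z, g ⁻¹ᵁ S.basicOpen r) :=
    (g.appLE V (g ⁻¹ᵁ S.basicOpen r) (g.preimage_mono (S.basicOpen_le r))).hom.toAlgebra
  haveI : IsScalarTower Γ(S, V) Γ(S, S.basicOpen r) Γ(Z, g ⁻¹ᵁ S.basicOpen r) :=
    IsScalarTower.of_algebraMap_eq' (by
      show (g.appLE V _ _).hom = (S.presheaf.map _ ≫ g.app _).hom
      rw [← Scheme.Hom.appLE_eq_app, Scheme.Hom.map_appLE])
  haveI : IsScalarTower Γ(S, V) B Γ(Z, g ⁻¹ᵁ S.basicOpen r) :=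
    IsScalarTower.of_algebraMap_eq' rfl
  haveI hlocS : IsLocalization.Away r Γ(S, S.basicOpen r) := hV.isLocalization_basicOpen r
  haveI hlocZ : IsLocalization.Away (algebraMap Γ(S, V) B r) Γ(Z, g ⁻¹ᵁ S.basicOpen r) := by
    exact (hV.preimage g).isLocalization_of_eq_basicOpen (g.app V r) _ hD
  haveI : IsLocalizedModule (Submonoid.powers r)
      (IsScalarTower.toAlgHom Γ(S, V) B Γ(Z, g ⁻¹ᵁ S.basicOpen r)).toLinearMap := by
    refine isLocalizedModule_iff_isLocalization.2 ?_
    show IsLocalization (Algebra.algebraMapSubmonoid B (Submonoid.powers r)) _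
    rwa [Algebra.algebraMapSubmonoid_powers]
  haveI : Module.Free (Localization.Away r) (LocalizedModule (Submonoid.powers r) B) := hfree
  have hf2 : Module.Free Γ(S, S.basicOpen r) Γ(Z, g ⁻¹ᵁ S.basicOpen r) := by
    let eR : Localization.Away r ≃ₐ[Γ(S, V)] Γ(S, S.basicOpen r) :=
      IsLocalization.algEquiv (Submonoid.powers r) _ _
    let eM := IsLocalizedModule.iso (Submonoid.powers r)
      (IsScalarTower.toAlgHom Γ(S, V) B Γ(Z, g ⁻¹ᵁ S.basicOpen r)).toLinearMap
    have hsemi : ∀ (c : Localization.Away r) (m), eM (c • m) = eR c • eM m := fun c m => by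
      obtain ⟨n, d, rfl⟩ := IsLocalization.exists_mk'_eq (Submonoid.powers r) c
      rw [IsLocalization.algEquiv_mk']
      apply ((IsLocalization.map_units Γ(S, S.basicOpen r) d).smul_left_cancel).1
      rw [smul_smul, IsLocalization.mk'_spec', algebraMap_smul, algebraMap_smul, ← map_smul,
        ← map_smul, ← algebraMap_smul (Localization.Away r) (d : Γ(S, V)), smul_smul,
        IsLocalization.mk'_spec', algebraMap_smul]
    let σ := eR.toRingEquiv
    haveI := RingHomInvPair.of_ringEquiv σ
    haveI := RingHomInvPair.of_ringEquiv_symm σ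
    let e₂ : LocalizedModule (Submonoid.powers r) B ≃ₛₗ[(σ : Localization.Away r →+* Γ(S, S.basicOpen r))]
        Γ(Z, g ⁻¹ᵁ S.basicOpen r) :=
      { eM.toAddEquiv with map_smul' := hsemi }
    exact Module.Free.of_equiv e₂
  haveI : Module.Finite Γ(S, S.basicOpen r) Γ(Z, g ⁻¹ᵁ S.basicOpen r) :=
    g.finite_app _ (hV.basicOpen r)
  let b := Module.Free.chooseBasis Γ(S, S.basicOpen r) Γ(Z, g ⁻¹ᵁ S.basicOpen r)
  haveI : Fintype (Module.Free.ChooseBasisIndex Γ(S, S.basicOpen r) Γ(Z, g ⁻¹ᵁ S.basicOpen r)) :=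
    Fintype.ofFinite _
  refine ⟨_, inferInstance, fun i => b i, ?_⟩
  convert b.equivFun.symm.bijective using 1
  funext c
  rw [Module.Basis.equivFun_symm_apply]
  exact Finset.sum_congr rfl fun i _ => (Algebra.smul_def _ _).symm

theorem exists_isAffineHom_representableBy [IsFinite g] [Flat g] [LocallyOfFinitePresentation g]
    [IsAffineHom f] :
    ∃ W : Over S, IsAffineHom W.hom ∧ Nonempty ((Flatn.morS g f).RepresentableBy W) := by
  have hloc : ∀ V : FreeOpens g, ∃ W : Over V.1.toScheme, IsAffine W.left ∧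
      Nonempty ((Flatn.morS (pullback.snd g V.1.ι) (pullback.snd f V.1.ι)).RepresentableBy W) := by
    rintro ⟨V, hV, ι, _, e, he⟩
    haveI : IsAffine V.toScheme := hV
    haveI : IsAffine (pullback g V.ι) := isAffine_of_isAffineHom (pullback.snd g V.ι)
    haveI : IsAffine (pullback f V.ι) := isAffine_of_isAffineHom (pullback.snd f V.ι)
    let iso := pullbackRestrictIsoRestrict g V
    let α : Γ(Z, g ⁻¹ᵁ V) ≅ Γ(pullback g V.ι, ⊤) :=
      (g ⁻¹ᵁ V).topIso.symm ≪≫ asIso iso.hom.appTop
    have hfac : iso.hom ≫ (g ∣_ V) = pullback.snd g V.ι := by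
      rw [← cancel_mono V.ι, Category.assoc, morphismRestrict_ι,
        pullbackRestrictIsoRestrict_hom_ι_assoc, pullback.condition]
    have hα : V.topIso.inv ≫ (pullback.snd g V.ι).appTop = g.app V ≫ α.hom := by
      rw [← hfac, Scheme.Hom.comp_appTop, ← Category.assoc]
      show (V.topIso.inv ≫ (g ∣_ V).appTop) ≫ iso.hom.appTop =
        g.app V ≫ (g ⁻¹ᵁ V).topIso.inv ≫ iso.hom.appTop
      rw [← Category.assoc]
      congr 1
      rw [Scheme.Hom.appTop, morphismRestrict_app', Scheme.Opens.topIso_inv,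
        Scheme.Opens.topIso_inv, ← Scheme.Hom.appLE_eq_app, Scheme.Hom.map_appLE,
        Scheme.Hom.appLE_map]
      rfl
    refine exists_representableBy (pullback.snd g V.ι) (pullback.snd f V.ι) (fun i => α.hom (e i)) ?_
    have h1 : (fun r : ι → Γ(V.toScheme, ⊤) =>
        ∑ i, (pullback.snd g V.ι).appTop (r i) * α.hom (e i)) =
        (α.commRingCatIsoToRingEquiv : _ → _) ∘ (fun r : ι → Γ(S, V) => ∑ i, g.app V (r i) * e i) ∘
          fun r i => V.topIso.hom (r i) := by
      funext r
      show _ = α.hom (∑ i, g.app V (V.topIso.hom (r i)) * e i)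
      rw [map_sum]
      refine Finset.sum_congr rfl fun i _ => ?_
      rw [map_mul]
      congr 1
      rw [← ConcreteCategory.comp_apply, ← hα, ConcreteCategory.comp_apply,
        ← ConcreteCategory.comp_apply V.topIso.hom, Iso.hom_inv_id]
      rfl
    rw [h1]
    exact α.commRingCatIsoToRingEquiv.bijective.comp (he.comp
      (Function.Bijective.piMap fun _ => V.topIso.commRingCatIsoToRingEquiv.bijective))
  choose W hWa hWr using hloc
  let u := fun V : FreeOpens g => (Groth.Agent.H17.MorSBaseChange.equiv g f V.1.ι (W V)).symm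
    ((hWr V).some.homEquiv (𝟙 (W V)))
  obtain ⟨G, hG, hGr⟩ := exists_representableBy_of_basis (Flatn.morS g f) (isZariskiGluing_morS g f)
    (FreeOpens g) (isBasis_freeOpens g) (fun V => (Over.map V.1.ι).obj (W V)) (fun V => by
      rintro _ ⟨x, rfl⟩
      exact ((W V).hom x).2) u (fun V T hT => by
      have hT' : Set.range T.hom ⊆ Set.range V.1.ι := by simpa using hT
      let T' : Over V.1.toScheme := Over.mk (IsOpenImmersion.lift V.1.ι T.hom hT')
      let eT : (Over.map V.1.ι).obj T' ≅ T :=
        Over.isoMk (Iso.refl _) (by simp [T', IsOpenImmersion.lift_fac])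
      let E := (hWr V).some
      have hnat : ∀ k : T' ⟶ W V, (Flatn.morS g f).map ((Over.map V.1.ι).map k).op (u V) =
          (Groth.Agent.H17.MorSBaseChange.equiv g f V.1.ι T').symm (E.homEquiv k) := by
        intro k
        apply (Groth.Agent.H17.MorSBaseChange.equiv g f V.1.ι T').injective
        rw [Groth.Agent.H17.MorSBaseChange.equiv_natural, Equiv.apply_symm_apply,
          Equiv.apply_symm_apply, ← E.homEquiv_comp, Category.comp_id]
      haveI : Mono V.1.ι := inferInstance
      have hsurj : ∀ k : (Over.map V.1.ι).obj T' ⟶ (Over.map V.1.ι).obj (W V),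
          ∃ k' : T' ⟶ W V, (Over.map V.1.ι).map k' = k := fun k =>
        ⟨Over.homMk k.left (by
          rw [← cancel_mono V.1.ι, Category.assoc]
          exact Over.w k), rfl⟩
      have hbij : Function.Bijective fun k : (Over.map V.1.ι).obj T' ⟶ (Over.map V.1.ι).obj (W V) =>
          (Flatn.morS g f).map k.op (u V) := by
        refine ⟨fun k k' h => ?_, fun s => ?_⟩
        · obtain ⟨k, rfl⟩ := hsurj k
          obtain ⟨k', rfl⟩ := hsurj k'
          change (Flatn.morS g f).map _ _ = (Flatn.morS g f).map _ _ at h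
          rw [hnat, hnat] at h
          rw [E.homEquiv.injective ((Equiv.injective _) h)]
        · obtain ⟨k, hk⟩ := E.homEquiv.surjective (Groth.Agent.H17.MorSBaseChange.equiv g f V.1.ι T' s)
          refine ⟨(Over.map V.1.ι).map k, ?_⟩
          show (Flatn.morS g f).map _ _ = s
          rw [hnat, hk, Equiv.symm_apply_apply]
      have : (fun h : T ⟶ (Over.map V.1.ι).obj (W V) => (Flatn.morS g f).map h.op (u V)) =
          ((Flatn.morS g f).mapIso eT.op).inv ∘
            (fun k => (Flatn.morS g f).map k.op (u V)) ∘ fun h => eT.hom ≫ h := by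
        funext h
        show _ = (Flatn.morS g f).map eT.inv.op ((Flatn.morS g f).map (eT.hom ≫ h).op (u V))
        rw [← ConcreteCategory.comp_apply, ← Functor.map_comp, ← op_comp, Iso.inv_hom_id_assoc]
      rw [this]
      exact ((isIso_iff_bijective _).1 inferInstance).comp
        (hbij.comp ⟨fun a b h => by simpa using congrArg (eT.inv ≫ ·) h,
          fun y => ⟨eT.inv ≫ y, by simp⟩⟩))
  refine ⟨G, ?_, hGr⟩
  rw [IsZariskiLocalAtTarget.iff_of_iSup_eq_top (P := @IsAffineHom) (fun V : FreeOpens g => V.1)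
    (by
      refine top_le_iff.1 fun x _ => ?_
      obtain ⟨V, hV, hx, -⟩ := Opens.isBasis_iff_nbhd.mp (isBasis_freeOpens g) (Opens.mem_top x)
      exact Opens.mem_iSup.2 ⟨⟨V, hV⟩, hx⟩)]
  intro V
  haveI : IsAffine V.1.toScheme := V.2.1
  haveI : IsAffine ((Over.map V.1.ι).obj (W V)).left := hWa V
  haveI : IsAffine (G.hom ⁻¹ᵁ V.1).toScheme := IsAffine.of_isIso (hG V).some.inv
  exact isAffineHom_of_isAffine _

end Groth.Agent.H8Props.WeilRes
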