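import Mathlib
import Groth.Agent.H8Props.WeilRes.MorS
import Groth.Agent.H8Props.WeilRes.Cover
import Groth.Agent.H13Grpd.InvariantAffine

/-! Relative morphisms from a finite locally free scheme to a scheme with affine neighbourhoods of
finite sets in fibres form a scheme. -/

set_option autoImplicit false
set_option linter.style.haveILetI false

universe u

open CategoryTheory CategoryTheory.Limits AlgebraicGeometry Opposite TopologicalSpace

namespace Groth.Agent.H8Props.WeilRes

set_option backward.isDefEq.respectTransparency false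
set_option backward.isDefEq.respectTransparency.types false

variable {Z X S : Scheme.{u}} (g : Z ⟶ S) (f : X ⟶ S)

/-- A representing object over an open subscheme gives a universal section on that open. -/
theorem exists_universal_over_open {V : S.Opens} {W : Over V.toScheme}
    (E : (Flatn.morS (pullback.snd g V.ι) (pullback.snd f V.ι)).RepresentableBy W) :
    ∃ u : (Flatn.morS g f).obj (op ((Over.map V.ι).obj W)), ∀ T : Over S,
      Set.range T.hom ⊆ (V : Set S) →
        Function.Bijective fun h : T ⟶ (Over.map V.ι).obj W => (Flatn.morS g f).map h.op u := by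
  let eq' := fun T' => Groth.Agent.H17.MorSBaseChange.equiv g f V.ι T'
  refine ⟨(eq' W).symm (E.homEquiv (𝟙 W)), fun T hT => ?_⟩
  have hT' : Set.range T.hom ⊆ Set.range V.ι := by simpa using hT
  let T' : Over V.toScheme := Over.mk (IsOpenImmersion.lift V.ι T.hom hT')
  let eT : (Over.map V.ι).obj T' ≅ T :=
    Over.isoMk (Iso.refl _) (by simp [T', IsOpenImmersion.lift_fac])
  have hnat : ∀ k : T' ⟶ W,
      (Flatn.morS g f).map ((Over.map V.ι).map k).op ((eq' W).symm (E.homEquiv (𝟙 W))) =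
        (eq' T').symm (E.homEquiv k) := by
    intro k
    apply (eq' T').injective
    simp only [eq']
    rw [Groth.Agent.H17.MorSBaseChange.equiv_natural, Equiv.apply_symm_apply,
      Equiv.apply_symm_apply, ← E.homEquiv_comp, Category.comp_id]
  have hbij : Function.Bijective fun k : (Over.map V.ι).obj T' ⟶ (Over.map V.ι).obj W =>
      (Flatn.morS g f).map k.op ((eq' W).symm (E.homEquiv (𝟙 W))) := by
    have hsurj : ∀ k : (Over.map V.ι).obj T' ⟶ (Over.map V.ι).obj W,
        ∃ k' : T' ⟶ W, (Over.map V.ι).map k' = k := fun k =>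
      ⟨Over.homMk k.left (by
        rw [← cancel_mono V.ι, Category.assoc]
        exact Over.w k), rfl⟩
    refine ⟨fun k k' h => ?_, fun s => ?_⟩
    · obtain ⟨k, rfl⟩ := hsurj k
      obtain ⟨k', rfl⟩ := hsurj k'
      change (Flatn.morS g f).map _ _ = (Flatn.morS g f).map _ _ at h
      rw [hnat, hnat] at h
      rw [E.homEquiv.injective ((Equiv.injective _) h)]
    · obtain ⟨k, hk⟩ := E.homEquiv.surjective (eq' T' s)
      refine ⟨(Over.map V.ι).map k, ?_⟩
      show (Flatn.morS g f).map _ _ = s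
      rw [hnat, hk, Equiv.symm_apply_apply]
  have : (fun h : T ⟶ (Over.map V.ι).obj W =>
        (Flatn.morS g f).map h.op ((eq' W).symm (E.homEquiv (𝟙 W)))) =
      ((Flatn.morS g f).mapIso eT.op).inv ∘
        (fun k => (Flatn.morS g f).map k.op ((eq' W).symm (E.homEquiv (𝟙 W)))) ∘
          fun h => eT.hom ≫ h := by
    funext h
    show _ = (Flatn.morS g f).map eT.inv.op ((Flatn.morS g f).map (eT.hom ≫ h).op _)
    rw [← ConcreteCategory.comp_apply, ← Functor.map_comp, ← op_comp, Iso.inv_hom_id_assoc]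
  rw [this]
  exact ((isIso_iff_bijective _).1 inferInstance).comp
    (hbij.comp ⟨fun a b h => by simpa using congrArg (eT.inv ≫ ·) h,
      fun y => ⟨eT.inv ≫ y, by simp⟩⟩)

theorem isRepresentable_morS_of_AF [IsFinite g] [Flat g] [LocallyOfFinitePresentation g]
    (hAF : ∀ (s : S) (d : ℕ) (x : Fin d → ↥X), (∀ k, f (x k) = s) →
      ∃ U : X.Opens, IsAffineOpen U ∧ ∀ k, x k ∈ U) :
    (Flatn.morS g f).IsRepresentable := by
  classical
  let ι := {p : S.Opens × X.Opens // IsAffineOpen p.1 ∧ IsAffineOpen p.2 ∧ p.2 ≤ f ⁻¹ᵁ p.1}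
  have hloc : ∀ i : ι, ∃ W : Over i.1.1.toScheme, Nonempty ((Flatn.morS (pullback.snd g i.1.1.ι)
      (pullback.snd (i.1.2.ι ≫ f) i.1.1.ι)).RepresentableBy W) := by
    rintro ⟨⟨V, U⟩, hV, hU, hUV⟩
    haveI : IsAffine V.toScheme := hV
    haveI : IsAffine U.toScheme := hU
    haveI : IsIso (pullback.fst (U.ι ≫ f) V.ι) := by
      have hr : Set.range (U.ι ≫ f) ⊆ Set.range V.ι := by
        rintro _ ⟨x, rfl⟩
        rw [Scheme.Opens.range_ι]
        exact hUV x.2
      refine ⟨pullback.lift (𝟙 _) (IsOpenImmersion.lift V.ι _ hr)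
        ((Category.id_comp _).trans (IsOpenImmersion.lift_fac _ _ _).symm), ?_, pullback.lift_fst _ _ _⟩
      rw [← cancel_mono (pullback.fst (U.ι ≫ f) V.ι), Category.assoc, pullback.lift_fst,
        Category.comp_id, Category.id_comp]
    haveI : IsAffine (pullback (U.ι ≫ f) V.ι) := IsAffine.of_isIso (pullback.fst (U.ι ≫ f) V.ι)
    haveI : IsAffineHom (pullback.snd (U.ι ≫ f) V.ι) := isAffineHom_of_isAffine _
    haveI : IsFinite (pullback.snd g V.ι) := MorphismProperty.pullback_snd _ _ inferInstance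
    haveI : Flat (pullback.snd g V.ι) := MorphismProperty.pullback_snd _ _ inferInstance
    haveI : LocallyOfFinitePresentation (pullback.snd g V.ι) :=
      MorphismProperty.pullback_snd _ _ inferInstance
    obtain ⟨W, -, hW⟩ := exists_isAffineHom_representableBy (pullback.snd g V.ι)
      (pullback.snd (U.ι ≫ f) V.ι)
    exact ⟨W, hW⟩
  choose W hW using hloc
  choose u₀ hu₀ using fun i : ι =>
    exists_universal_over_open g (i.1.2.ι ≫ f) (hW i).some
  let W' : ι → Over S := fun i => (Over.map i.1.1.ι).obj (W i)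
  have hrange : ∀ (i : ι) {T : Over S}, (T ⟶ W' i) → Set.range T.hom ⊆ (i.1.1 : Set S) := by
    rintro i T h _ ⟨x, rfl⟩
    rw [← Over.w h, Scheme.Hom.comp_apply]
    exact ((W i).hom (h.left x)).2
  let j : ∀ i : ι, Over.mk (i.1.2.ι ≫ f) ⟶ Over.mk f := fun i => Over.homMk i.1.2.ι rfl
  let u : ∀ i, (Flatn.morS g f).obj (op (W' i)) := fun i =>
    (u₀ i : _ ⟶ Over.mk (i.1.2.ι ≫ f)) ≫ j i
  have humap : ∀ (i : ι) (T : Over S) (h : T ⟶ W' i), (Flatn.morS g f).map h.op (u i) =
      ((Flatn.morS g (i.1.2.ι ≫ f)).map h.op (u₀ i) : _ ⟶ Over.mk (i.1.2.ι ≫ f)) ≫ j i :=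
    fun i T h => by rw [Flatn.morS_map, Flatn.morS_map]; exact (Category.assoc _ _ _).symm
  refine isRepresentable_of_open_cover (isZariskiGluing_morS g f) W' u (fun i T h h' e => ?_)
    fun T s => ?_
  · change (Flatn.morS g f).map h.op (u i) = (Flatn.morS g f).map h'.op (u i) at e
    rw [humap, humap] at e
    haveI : Mono (j i) := (Over.forget S).mono_of_mono_map (inferInstanceAs (Mono i.1.2.ι))
    exact (hu₀ i T (hrange i h)).1 ((cancel_mono (j i)).1 e)
  let b : pullback T.hom g ⟶ X := (s : _ ⟶ Over.mk f).left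
  have hb : b ≫ f = pullback.snd T.hom g ≫ g := Over.w (s : _ ⟶ Over.mk f)
  let p := pullback.fst T.hom g
  have hclosed : ∀ U : X.Opens, IsClosed (p '' (b ⁻¹ᵁ U : Set (pullback T.hom g : Scheme))ᶜ) :=
    fun U => p.isClosedMap _ (b ⁻¹ᵁ U).2.isClosed_compl
  let O : ι → T.left.Opens := fun i => T.hom ⁻¹ᵁ i.1.1 ⊓ ⟨_, (hclosed i.1.2).isOpen_compl⟩
  have hmemO : ∀ (i : ι) (t : T.left),
      t ∈ O i ↔ T.hom t ∈ i.1.1 ∧ ∀ z, p z = t → b z ∈ i.1.2 := by
    intro i t
    refine ⟨fun ⟨h1, h2⟩ => ⟨h1, fun z hz => ?_⟩, fun ⟨h1, h2⟩ => ⟨h1, ?_⟩⟩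
    · by_contra hn
      exact h2 ⟨z, hn, hz⟩
    · rintro ⟨z, hn, hz⟩
      exact hn (h2 z hz)
  refine ⟨O, fun t => ?_, fun i T' q => ?_⟩
  · -- the covering property
    haveI : IsFinite p := MorphismProperty.pullback_fst _ _ inferInstance
    have hfin : (b '' (p ⁻¹' {t})).Finite := (p.finite_preimage_singleton t).image _
    obtain ⟨V, hV, htV, -⟩ := exists_isAffineOpen_mem_and_subset (x := T.hom t) (U := (⊤ : S.Opens))
      (Opens.mem_top _)
    have hfib : ∀ y ∈ b '' (p ⁻¹' {t}), f y = T.hom t := by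
      rintro _ ⟨z, hz, rfl⟩
      rw [← Scheme.Hom.comp_apply, hb, ← pullback.condition, Scheme.Hom.comp_apply]
      exact congrArg T.hom hz
    obtain ⟨d, x, -, hx⟩ := hfin.fin_param
    obtain ⟨U₀, hU₀, hxU⟩ := hAF (T.hom t) d x fun k => hfib _ (hx ▸ Set.mem_range_self k)
    obtain ⟨φ, hφ, hle⟩ := Groth.Agent.H13Grpd.exists_basicOpen_finite hU₀ hfin
      (O := U₀ ⊓ f ⁻¹ᵁ V) (fun y hy => ⟨by obtain ⟨k, rfl⟩ := hx.symm ▸ hy; exact hxU k,
        show f y ∈ V by rw [hfib y hy]; exact htV⟩) inf_le_left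
    refine ⟨⟨(V, X.basicOpen φ), hV, hU₀.basicOpen φ, hle.trans inf_le_right⟩, ?_⟩
    rw [hmemO]
    exact ⟨htV, fun z hz => hφ ⟨z, hz, rfl⟩⟩
  · constructor
    · rintro ⟨h, hh⟩ _ ⟨t', rfl⟩
      rw [SetLike.mem_coe, hmemO]
      refine ⟨?_, fun z hz => ?_⟩
      · rw [← Scheme.Hom.comp_apply, Over.w q]
        exact hrange i h ⟨t', rfl⟩
      · obtain ⟨w, hw, -⟩ := Scheme.exists_preimage_of_isPullback (isPullback_pullback_map g q)
          z t' hz
        rw [humap] at hh
        have h1 := congrArg (fun m : _ ⟶ Over.mk f => m.left w) hh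
        rw [← hw]
        change b (((Over.pullback g).map q).left w) ∈ i.1.2
        refine (Eq.symm h1) ▸ ?_
        exact (((Flatn.morS g (i.1.2.ι ≫ f)).map h.op (u₀ i) : _ ⟶ Over.mk (i.1.2.ι ≫ f)).left w).2
    · intro hq
      have hqO : ∀ t', q.left t' ∈ O i := fun t' => hq ⟨t', rfl⟩
      have hT' : Set.range T'.hom ⊆ (i.1.1 : Set S) := by
        rintro _ ⟨t', rfl⟩
        rw [← Over.w q, Scheme.Hom.comp_apply]
        exact ((hmemO i _).1 (hqO t')).1
      let s' : _ ⟶ Over.mk f := (Flatn.morS g f).map q.op s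
      have hs' : Set.range s'.left ⊆ Set.range i.1.2.ι := by
        rintro _ ⟨w, rfl⟩
        rw [Scheme.Opens.range_ι]
        show b (((Over.pullback g).map q).left w) ∈ i.1.2
        refine ((hmemO i _).1 (hqO (pullback.fst T'.hom g w))).2 _ ?_
        exact congrArg (fun m : _ ⟶ T.left => m w) (isPullback_pullback_map g q).w
      let l : _ ⟶ Over.mk (i.1.2.ι ≫ f) := Over.homMk (IsOpenImmersion.lift i.1.2.ι s'.left hs')
        (by
          show _ ≫ i.1.2.ι ≫ f = _
          rw [IsOpenImmersion.lift_fac_assoc]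
          exact Over.w s')
      obtain ⟨h, hh⟩ := (hu₀ i T' hT').2 l
      refine ⟨h, ?_⟩
      rw [humap]
      change (Flatn.morS g (i.1.2.ι ≫ f)).map h.op (u₀ i) = l at hh
      rw [hh]
      exact Over.OverMorphism.ext (IsOpenImmersion.lift_fac _ _ _)

end Groth.Agent.H8Props.WeilRes
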